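import Cfsg.Agent.Steiner.Transport22
import Cfsg.Agent.LargeExtra.SimpleCriterion
import Cfsg.Prelude.Def_Sporadic
import Mathlib.GroupTheory.QuotientGroup.Basic
import Mathlib.GroupTheory.Index

/-!
The structure of an involution centralizer from a normal subgroup, an action on the 22 points of a
Steiner system and a bound for the order.
-/

set_option autoImplicit false
set_option linter.style.haveILetI false

namespace CfsgLib.Coset.J4Cent

variable {G : Type*} [Group G] [Finite G]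

/-- A subgroup of index three and two-power order contains every element killed by a power of two. -/
theorem mem_of_pow_eq_one {N Q : Subgroup G} (hQN : Q ≤ N)
    (hnorm : ∀ n ∈ N, ∀ q ∈ Q, n * q * n⁻¹ ∈ Q) (hQ : Nat.card Q = 2 ^ 13)
    (hN : Nat.card N = 3 * 2 ^ 13) {x : G} (hx : x ∈ N) (hp : x ^ (2 ^ 13) = 1) : x ∈ Q := by
  haveI : (Q.subgroupOf N).Normal :=
    ⟨fun q hq n => hnorm n n.2 q hq⟩
  have hi : (Q.subgroupOf N).index = 3 := by
    have h := (Q.subgroupOf N).card_mul_index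
    rw [Nat.card_congr (Subgroup.subgroupOfEquivOfLe hQN).toEquiv, hQ, hN] at h
    omega
  have h1 : (QuotientGroup.mk (⟨x, hx⟩ : N) : N ⧸ Q.subgroupOf N) ^ (2 ^ 13) = 1 := by
    rw [← QuotientGroup.mk_pow, show (⟨x, hx⟩ : N) ^ (2 ^ 13) = 1 from Subtype.ext (by simpa using hp)]
    rfl
  have h3 : (QuotientGroup.mk (⟨x, hx⟩ : N) : N ⧸ Q.subgroupOf N) ^ 3 = 1 := by
    rw [← hi, Subgroup.index_eq_card]
    exact pow_card_eq_one'
  have := orderOf_dvd_of_pow_eq_one h1
  have := orderOf_dvd_of_pow_eq_one h3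
  have h := Nat.dvd_gcd ‹orderOf _ ∣ 2 ^ 13› this
  rw [show Nat.gcd (2 ^ 13) 3 = 1 by norm_num, Nat.dvd_one, orderOf_eq_one_iff,
    QuotientGroup.eq_one_iff] at h
  exact h

/-- The structure of the centralizer. -/
theorem centralizer_structure {z : G} (hz : orderOf z = 2) {Q N L : Subgroup G}
    (hLC : L ≤ Subgroup.centralizer {z}) (hNL : N ≤ L) (hQN : Q ≤ N)
    (hnorm : ∀ n ∈ N, ∀ q ∈ Q, n * q * n⁻¹ ∈ Q) (hQ : Nat.card Q = 2 ^ 13)
    (hE : Cfsg.IsExtraspecial 2 Q) (hN : Nat.card N = 3 * 2 ^ 13)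
    {α : Type*} [Fintype α] [DecidableEq α] (hα : Fintype.card α = 22) {B : Set (Finset α)}
    (hB : Cfsg.IsSteinerSystem 3 6 B) (φ : L →* Equiv.Perm α) (hφ : φ.range ≤ Cfsg.setSystemAut B)
    (hker : N.subgroupOf L ≤ φ.ker) (himg : 887040 ≤ Nat.card φ.range)
    (hC : Nat.card (Subgroup.centralizer {z}) ≤ 21799895040) :
    orderOf z = 2 ∧ ∃ (Q' N' M' : Subgroup (Subgroup.centralizer ({z} : Set G))),
      Q'.Normal ∧ N'.Normal ∧ Q' ≤ N' ∧ N' ≤ M' ∧ Nat.card Q' = 2 ^ 13 ∧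
      Cfsg.IsExtraspecial 2 Q' ∧ Nat.card N' = 3 * 2 ^ 13 ∧ M'.index = 2 ∧
      ∃ (_ : (N'.subgroupOf M').Normal), Cfsg.IsM22 (M' ⧸ N'.subgroupOf M') := by
  classical
  refine ⟨hz, ?_⟩
  obtain ⟨haut, -, H, hH, hHM⟩ := CfsgLib.Steiner.aut22 hB hα
  -- counting
  have hprod := φ.ker.card_mul_index
  rw [Subgroup.index_ker] at hprod
  have hkerN : Nat.card N ≤ Nat.card φ.ker := by
    rw [← Nat.card_congr (Subgroup.subgroupOfEquivOfLe hNL).toEquiv]
    exact Subgroup.card_le_of_le hker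
  have hL : Nat.card L ≤ 21799895040 := (Subgroup.card_le_of_le hLC).trans hC
  have hrange : Nat.card φ.range = 887040 := le_antisymm (haut ▸ Subgroup.card_le_of_le hφ) himg
  have hker' : φ.ker = N.subgroupOf L := by
    refine (Subgroup.eq_of_le_of_card_ge hker ?_).symm
    rw [Nat.card_congr (Subgroup.subgroupOfEquivOfLe hNL).toEquiv, hN]
    rw [hrange] at hprod
    omega
  have hLeq : L = Subgroup.centralizer {z} := by
    refine Subgroup.eq_of_le_of_card_ge hLC (hC.trans ?_)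
    rw [← hprod, hrange]
    calc 21799895040 = Nat.card N * 887040 := by rw [hN]; norm_num
      _ ≤ _ := Nat.mul_le_mul_right _ hkerN
  rw [← hLeq]
  let ψ : L →* Cfsg.setSystemAut B := φ.codRestrict _ fun c => hφ (MonoidHom.mem_range.mpr ⟨c, rfl⟩)
  have hψ : Function.Surjective ψ := by
    intro a
    obtain ⟨c, hc⟩ : a.1 ∈ φ.range :=
      (Subgroup.eq_of_le_of_card_ge hφ (by rw [haut, hrange])).ge a.2
    exact ⟨c, Subtype.ext hc⟩
  have hψker : ∀ c : L, ψ c = 1 ↔ (c : G) ∈ N := fun c => by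
    have : c ∈ φ.ker ↔ (c : G) ∈ N := by rw [hker']; rfl
    rw [← this, MonoidHom.mem_ker]
    exact ⟨fun h => congrArg Subtype.val h, fun h => Subtype.ext h⟩
  set N' := N.subgroupOf L with hN'
  haveI hN'n : N'.Normal := by
    rw [← hker']
    exact MonoidHom.normal_ker φ
  set M' := H.comap ψ
  have hNM : N' ≤ M' := fun c hc => by
    show ψ c ∈ H
    rw [(hψker c).mpr hc]
    exact H.one_mem
  let θ : M' →* H := (ψ.comp M'.subtype).codRestrict H fun c => c.2
  have hθ : Function.Surjective θ := fun a => by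
    obtain ⟨c, hc⟩ := hψ a
    exact ⟨⟨c, by show ψ c ∈ H; rw [hc]; exact a.2⟩, Subtype.ext hc⟩
  have hθker : θ.ker = N'.subgroupOf M' := by
    ext c
    rw [MonoidHom.mem_ker, Subgroup.mem_subgroupOf, hN', Subgroup.mem_subgroupOf]
    exact ⟨fun h => (hψker c).mp (congrArg Subtype.val h), fun h => Subtype.ext ((hψker c).mpr h)⟩
  refine ⟨Q.subgroupOf L, N', M', ⟨fun q hq c => ?_⟩, hN'n, fun q hq => hQN hq, hNM, ?_, ?_, ?_,
    ?_, ?_⟩
  · have hcN : c * q * c⁻¹ ∈ N' := hN'n.conj_mem q (hQN hq) c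
    refine mem_of_pow_eq_one hQN hnorm hQ hN hcN ?_
    have hq13 : (⟨(q : G), hq⟩ : Q) ^ (2 ^ 13) = 1 := hQ ▸ pow_card_eq_one'
    have : (q : G) ^ (2 ^ 13) = 1 := congrArg Subtype.val hq13
    rw [map_mul, map_mul, map_inv, conj_pow, Subgroup.subtype_apply, Subgroup.subtype_apply, this]
    group
  · rw [Nat.card_congr (Subgroup.subgroupOfEquivOfLe (hQN.trans (hNL))).toEquiv, hQ]
  · exact CfsgLib.LargeExtra.isExtraspecial_equiv (Subgroup.subgroupOfEquivOfLe (hQN.trans hNL)).symm hE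
  · rw [Nat.card_congr (Subgroup.subgroupOfEquivOfLe hNL).toEquiv, hN]
  · rw [Subgroup.index_comap_of_surjective _ hψ, hH]
  · haveI hn : (N'.subgroupOf M').Normal := hθker ▸ MonoidHom.normal_ker θ
    refine ⟨hn, ?_⟩
    let e : M' ⧸ N'.subgroupOf M' ≃* H :=
      (QuotientGroup.quotientMulEquivOfEq hθker.symm).trans
        (QuotientGroup.quotientKerEquivOfSurjective θ hθ)
    haveI := hHM.1
    haveI : Nontrivial (M' ⧸ N'.subgroupOf M') := e.toEquiv.nontrivial
    exact ⟨IsSimpleGroup.isSimpleGroup_of_surjective e.symm.toMonoidHom e.symm.surjective,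
      (Nat.card_congr e.toEquiv).trans hHM.2⟩

end CfsgLib.Coset.J4Cent
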