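import Cfsg.Agent.Coset.J4.Count
import Mathlib.Algebra.Order.BigOperators.Group.Finset

/-!
A bound on a centraliser from the seven double cosets: each contributes at most its suborbit length times the
number of class members that the representative carries back into the class.
-/

set_option autoImplicit false

namespace CfsgLib.Coset.J4Cent

open CfsgLib.Coset.J4

variable {G : Type*} [Group G] {H : Subgroup G}

/-- The order of the centraliser of `a`, times the square of the class size in `H`, is bounded by the sum over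
the nodes of suborbit length times the number of returning class members, times the order of `H`. -/
theorem card_centralizer_le (D : CfsgLib.Coset.J4.DC H) (a : G) (cls : Finset G)
    (hcls : ∀ y, y ∈ cls ↔ ∃ h ∈ H, y = h⁻¹ * a * h) (T : Fin 7 → Finset G)
    (hT : ∀ (n : Fin 7) (y : G), y ∈ cls → (D.g n)⁻¹ * y * D.g n ∈ cls → y ∈ T n) :
    Nat.card (Subgroup.centralizer {a}) * (cls.card * cls.card) ≤
      (∑ n, CfsgLib.Coset.J4.sizeE n * (T n).card) * Nat.card H := by
  classical
  have := D.finH
  have := D.finite_G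
  let : Fintype G := Fintype.ofFinite G
  let : Fintype H := Fintype.ofFinite H
  let φ : H → G := fun h => (h : G)⁻¹ * a * h
  let fib : G → Finset H := fun y => Finset.univ.filter fun h => φ h = y
  have hfib : ∀ h0 : H, (fib (φ h0)).card = (fib a).card := fun h0 =>
    Finset.card_equiv (Equiv.mulRight h0⁻¹) fun h => by
      simp only [fib, φ, Finset.mem_filter, Finset.mem_univ, true_and, Equiv.coe_mulRight, Subgroup.coe_mul,
        Subgroup.coe_inv, mul_inv_rev, inv_inv]
      constructor
      · intro e
        rw [show (h0 : G) * (h : G)⁻¹ * a * ((h : G) * (h0 : G)⁻¹) =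
          (h0 : G) * ((h : G)⁻¹ * a * h) * (h0 : G)⁻¹ by group, e]
        group
      · intro e
        calc (h : G)⁻¹ * a * h
            = (h0 : G)⁻¹ * ((h0 : G) * (h : G)⁻¹ * a * ((h : G) * (h0 : G)⁻¹)) * h0 := by group
          _ = (h0 : G)⁻¹ * a * h0 := by rw [e]
  have hfib_le : ∀ y, (fib y).card ≤ (fib a).card := by
    intro y
    rcases (fib y).eq_empty_or_nonempty with h | ⟨h0, h⟩
    · simp [h]
    · obtain ⟨-, rfl⟩ := Finset.mem_filter.mp h
      exact (hfib h0).le
  -- the class size times the stabiliser is the group order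
  have hH : cls.card * (fib a).card = Nat.card H := by
    have hs := Finset.card_eq_sum_card_fiberwise (s := (Finset.univ : Finset H)) (t := cls) (f := φ)
      (fun h _ => (hcls _).mpr ⟨h, h.2, rfl⟩)
    have hconst : ∀ y ∈ cls, (fib y).card = (fib a).card := fun y hy => by
      obtain ⟨h0, hh0, rfl⟩ := (hcls y).mp hy
      exact hfib ⟨h0, hh0⟩
    rw [Nat.card_eq_fintype_card, ← Finset.card_univ, hs]
    show _ = ∑ y ∈ cls, (fib y).card
    rw [Finset.sum_congr rfl hconst, Finset.sum_const, smul_eq_mul]
  -- the double cosets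
  let ψ : Fin 7 → H × H → G := fun n q => (q.1 : G) * D.g n * q.2
  let dfib : Fin 7 → G → Finset (H × H) := fun n x => Finset.univ.filter fun q => ψ n q = x
  have hdfib : ∀ n x, x ∈ D.dset n → (dfib n x).card = (dfib n (D.g n)).card := by
    rintro n x ⟨u, hu, v, hv, rfl⟩
    refine Finset.card_equiv ((Equiv.mulLeft (⟨u, hu⟩ : H)⁻¹).prodCongr (Equiv.mulRight (⟨v, hv⟩ : H)⁻¹))
      fun q => ?_
    simp only [dfib, ψ, Finset.mem_filter, Finset.mem_univ, true_and, Equiv.prodCongr_apply, Prod.map,
      Equiv.coe_mulLeft, Equiv.coe_mulRight, Subgroup.coe_mul, Subgroup.coe_inv]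
    constructor
    · intro e
      rw [show u⁻¹ * (q.1 : G) * D.g n * ((q.2 : G) * v⁻¹) = u⁻¹ * ((q.1 : G) * D.g n * q.2) * v⁻¹ by group, e]
      group
    · intro e
      calc (q.1 : G) * D.g n * q.2 = u * (u⁻¹ * (q.1 : G) * D.g n * ((q.2 : G) * v⁻¹)) * v := by group
        _ = u * D.g n * v := by rw [e]
  have hmaps : ∀ n q, ψ n q ∈ D.dset n := fun n q => ⟨q.1, q.1.2, q.2, q.2.2, rfl⟩
  have hd : ∀ n, sizeE n * (dfib n (D.g n)).card = Nat.card H := by
    intro n
    have hs := Finset.card_eq_sum_card_fiberwise (s := (Finset.univ : Finset (H × H)))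
      (t := (D.dset n).toFinset) (f := ψ n) (fun q _ => by simpa using hmaps n q)
    rw [Finset.card_univ, Fintype.card_prod] at hs
    have : ∑ x ∈ (D.dset n).toFinset, (dfib n x).card = sizeE n * Nat.card H * (dfib n (D.g n)).card := by
      rw [Finset.sum_congr rfl fun x hx => hdfib n x (Set.mem_toFinset.mp hx), Finset.sum_const, smul_eq_mul,
        ← Nat.card_eq_card_toFinset, D.card_dset]
    rw [show Nat.card H = Fintype.card H from Nat.card_eq_fintype_card] at this ⊢
    have hh : sizeE n * (dfib n (D.g n)).card * Fintype.card H = Fintype.card H * Fintype.card H := by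
      rw [hs]
      show _ = ∑ x ∈ (D.dset n).toFinset, (dfib n x).card
      rw [this]
      exact Nat.mul_right_comm _ _ _
    exact Nat.eq_of_mul_eq_mul_right Fintype.card_pos hh
  let Cn : Fin 7 → Finset G := fun n => Finset.univ.filter fun x => x * a = a * x ∧ x ∈ D.dset n
  let X : Fin 7 → Finset (H × H) := fun n => Finset.univ.filter fun q => ψ n q * a = a * ψ n q
  have hX : ∀ n, (X n).card = (Cn n).card * (dfib n (D.g n)).card := by
    intro n
    have hs := Finset.card_eq_sum_card_fiberwise (s := X n) (t := Cn n) (f := ψ n) (fun q hq => by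
      simp only [X, Cn, Finset.coe_filter, Set.mem_ofPred_eq, Finset.mem_univ, true_and] at hq ⊢
      exact ⟨hq, hmaps n q⟩)
    rw [hs]
    refine (Finset.sum_congr rfl fun x hx => ?_).trans (by rw [Finset.sum_const, smul_eq_mul])
    obtain ⟨-, hxa, hxd⟩ := Finset.mem_filter.mp hx
    rw [← hdfib n x hxd]
    refine congrArg Finset.card (Finset.ext fun q => ?_)
    simp only [X, dfib, Finset.mem_filter, Finset.mem_univ, true_and]
    exact ⟨fun h => h.2, fun h => ⟨h ▸ hxa, h⟩⟩
  have hXle : ∀ n, (X n).card ≤ (T n).card * ((fib a).card * (fib a).card) := by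
    intro n
    let R : G → Finset (H × H) := fun y => fib y ×ˢ (fib ((D.g n)⁻¹ * y * D.g n)).map (Equiv.inv H).toEmbedding
    have hsub : X n ⊆ (T n).biUnion R := by
      intro q hq
      obtain ⟨u, v⟩ := q
      simp only [X, ψ, Finset.mem_filter, Finset.mem_univ, true_and] at hq
      set g := D.g n
      have e : g⁻¹ * φ u * g = (v : G) * a * (v : G)⁻¹ :=
        calc g⁻¹ * φ u * g = g⁻¹ * (u : G)⁻¹ * (a * ((u : G) * g * v)) * (v : G)⁻¹ := by
              simp only [φ]; group
          _ = g⁻¹ * (u : G)⁻¹ * ((u : G) * g * v * a) * (v : G)⁻¹ := by rw [hq]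
          _ = (v : G) * a * (v : G)⁻¹ := by group
      refine Finset.mem_biUnion.mpr ⟨φ u, hT n _ ((hcls _).mpr ⟨u, u.2, rfl⟩)
        ((hcls _).mpr ⟨(v : G)⁻¹, H.inv_mem v.2, by rw [e]; group⟩), ?_⟩
      simp only [R, Finset.mem_product, Finset.mem_map, fib, Finset.mem_filter, Finset.mem_univ, true_and]
      refine ⟨v⁻¹, ?_, by simp⟩
      simp only [φ, Subgroup.coe_inv, inv_inv]
      exact e.symm
    refine (Finset.card_le_card hsub).trans ((Finset.card_biUnion_le).trans ?_)
    refine (Finset.sum_le_card_nsmul _ _ ((fib a).card * (fib a).card) fun y _ => ?_).trans (le_of_eq rfl)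
    rw [Finset.card_product, Finset.card_map]
    exact Nat.mul_le_mul (hfib_le _) (hfib_le _)
  have hnode : ∀ n, (Cn n).card * (cls.card * cls.card) ≤ sizeE n * (T n).card * Nat.card H := by
    intro n
    refine Nat.le_of_mul_le_mul_right ?_ (Nat.card_pos (α := H))
    calc (Cn n).card * (cls.card * cls.card) * Nat.card H
        = (Cn n).card * (cls.card * cls.card) * (sizeE n * (dfib n (D.g n)).card) := by rw [hd n]
      _ = sizeE n * (X n).card * (cls.card * cls.card) := by rw [hX n]; ring
      _ ≤ sizeE n * ((T n).card * ((fib a).card * (fib a).card)) * (cls.card * cls.card) :=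
          Nat.mul_le_mul_right _ (Nat.mul_le_mul_left _ (hXle n))
      _ = sizeE n * (T n).card * ((cls.card * (fib a).card) * (cls.card * (fib a).card)) := by ring
      _ = sizeE n * (T n).card * Nat.card H * Nat.card H := by rw [hH]; ring
  have hC : Nat.card (Subgroup.centralizer ({a} : Set G)) ≤ ∑ n, (Cn n).card := by
    refine le_trans ?_ Finset.card_biUnion_le
    rw [Nat.card_eq_fintype_card, Fintype.card_subtype]
    refine Finset.card_le_card fun x hx => ?_
    obtain ⟨n, hn⟩ := D.exists_node x
    exact Finset.mem_biUnion.mpr ⟨n, Finset.mem_univ _, Finset.mem_filter.mpr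
      ⟨Finset.mem_univ _, Subgroup.mem_centralizer_singleton_iff.mp (Finset.mem_filter.mp hx).2, hn⟩⟩
  calc Nat.card (Subgroup.centralizer ({a} : Set G)) * (cls.card * cls.card)
      ≤ (∑ n, (Cn n).card) * (cls.card * cls.card) := Nat.mul_le_mul_right _ hC
    _ = ∑ n, (Cn n).card * (cls.card * cls.card) := Finset.sum_mul ..
    _ ≤ ∑ n, sizeE n * (T n).card * Nat.card H := Finset.sum_le_sum fun n _ => hnode n
    _ = (∑ n, sizeE n * (T n).card) * Nat.card H := (Finset.sum_mul ..).symm

end CfsgLib.Coset.J4Cent
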