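import Cfsg.Agent.Coset.J4Cent.BoundKit

/-!
Returning members of the class at node 5.
-/

set_option autoImplicit false
set_option maxRecDepth 100000
set_option Elab.async false

namespace CfsgLib.Coset.J4Cent

theorem nodeOK_5 : nodeOK 5 = true := by decide +kernel

end CfsgLib.Coset.J4Cent
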