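import Cfsg.Agent.Coset.J4Cent.Fixed
import Cfsg.Agent.Coset.J4Cent.BoundAbs
import Cfsg.Agent.Coset.J4Cent.Returns1
import Cfsg.Agent.Coset.J4Cent.Returns2
import Cfsg.Agent.Coset.J4Cent.Returns3
import Cfsg.Agent.Coset.J4Cent.Returns4
import Cfsg.Agent.Coset.J4Cent.Returns5
import Cfsg.Agent.Coset.J4Cent.Returns6

/-!
The centralizer of the sextet element of the presented group has order at most 21799895040.
-/

set_option autoImplicit false
set_option maxRecDepth 100000
set_option Elab.async false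
set_option linter.style.haveILetI false

namespace CfsgLib.Coset.J4Cent

open CfsgLib.Coset CfsgLib.Coset.J4 CfsgLib.Coset.J4.Mat
open CfsgLib.Coset.J4.Inst (gens)

theorem retOK_all {n : Nat} (h1 : 1 ≤ n) (hn : n < 7) {s : Nat} (hs : s < 1771) :
    retOK n (nv n) (sCo ctxJ.S s) = true := by
  have h : nodeOK n = true := by
    interval_cases n
    exacts [nodeOK_1, nodeOK_2, nodeOK_3, nodeOK_4, nodeOK_5, nodeOK_6]
  unfold nodeOK at h
  cases hv : nv n with
  | zero => rw [hv] at h; exact of_allBelow h s hs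
  | succ v => rw [hv] at h; exact of_allBelow h s hs

theorem sCo_lt {s : Nat} (hs : s < 1771) :
    sCo ctxJ.S s < 2048 ∧ Dat.invT.get (sCo ctxJ.S s) = s := by
  have h := of_allBelow inv_ok s hs
  simp only [invOK, cond_false_eq_true] at h
  exact ⟨Nat.ble_eq.mp h.1, Nat.eq_of_beq_eq_true h.2⟩

variable (hinj : Function.Injective repJ4)

include hinj

theorem ret_mem {n : Nat} (h1 : 1 ≤ n) (hn : n < 7) {s s' : Nat} (hs : s < 1771) (hs' : s' < 1771)
    (h : (gens.UF.node ctxJ n)⁻¹ * gens.UF.E ctxJ.B (sCo ctxJ.S s) * gens.UF.node ctxJ n =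
      gens.UF.E ctxJ.B (sCo ctxJ.S s')) :
    sCo ctxJ.S s ∈ Dat.hitL.getD n [] := by
  have hr := retOK_all h1 hn hs
  unfold retOK at hr
  cases hm : memB (sCo ctxJ.S s) (Dat.hitL.getD n []) with
  | true => exact memB_iff.mp hm
  | false =>
    exfalso
    rw [hm, cond_false] at hr
    set c := sCo ctxJ.S s with hc
    obtain ⟨hg, hgi⟩ := node_lt n hn
    have hy := E_word hinj c
    have hfv : fv < 2 ^ 112 := by decide +kernel
    have hsv : Dat.sepV < 2 ^ 112 := by decide +kernel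
    have eg := node_W hinj n hn
    have egi := node_inv hinj n hn
    -- the vector of the node is fixed
    have hfix : Nat.beq (vwt Dat.tabL (nv n) (bitsW c)) (nv n) = true := by
      refine Nat.beq_eq.mpr (rowVec_inj (vwt_lt _ _ _ (vwt_lt _ _ _ hfv)) (vwt_lt _ _ _ hfv) ?_)
      rw [← vwt_vec (bitsW_lt c) rfl, ← hy]
      show Matrix.vecMul (rowVec 112 (vwt Dat.tabL fv (Dat.nodeWi.getD n []))) _ =
        rowVec 112 (vwt Dat.tabL fv (Dat.nodeWi.getD n []))
      rw [← vwt_vec hgi rfl, egi, Matrix.vecMul_vecMul, ← map_mul]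
      have hmem : (gens.UF.node ctxJ n)⁻¹ * gens.UF.E ctxJ.B c * gens.UF.node ctxJ n ∈ fixVec fv :=
        h ▸ hSub_fix hinj ((udata gens).E_mem_hSub _)
      have e : (gens.UF.node ctxJ n)⁻¹ * gens.UF.E ctxJ.B c =
          ((gens.UF.node ctxJ n)⁻¹ * gens.UF.E ctxJ.B c * gens.UF.node ctxJ n) *
            (gens.UF.node ctxJ n)⁻¹ := by group
      rw [e, map_mul, ← Matrix.vecMul_vecMul]
      exact congrArg (Matrix.vecMul · _) hmem
    rw [hfix, cond_true] at hr
    have hv := Tr.get_all Dat.valT hr (sCo ctxJ.S s')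
    rw [← Nat.eq_of_beq_eq_true (of_allBelow val_ok s' hs')] at hv
    have heq : vwt Dat.tabL Dat.sepV (bitsW (sCo ctxJ.S s')) = sepVal n c := by
      refine rowVec_inj (vwt_lt _ _ _ hsv) (vwt_lt _ _ _ (vwt_lt _ _ _ (vwt_lt _ _ _ hsv))) ?_
      show _ = rowVec 112 (vwt Dat.tabL (vwt Dat.tabL (vwt Dat.tabL Dat.sepV _) _) _)
      rw [← vwt_vec hg rfl, ← vwt_vec (bitsW_lt c) rfl, ← vwt_vec hgi rfl,
        ← vwt_vec (bitsW_lt (sCo ctxJ.S s')) rfl, Matrix.vecMul_vecMul, Matrix.vecMul_vecMul,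
        ← map_mul, ← map_mul, egi, ← eg, ← hy, ← E_word hinj, ← mul_assoc, h]
    rw [heq, Nat.beq_refl] at hv
    exact Bool.noConfusion hv

theorem centralizer_bound :
    Nat.card (Subgroup.centralizer {EL 5}) ≤ 21799895040 := by
  classical
  set hd := udata gens
  let cls : Finset Cfsg.Spor.J4 :=
    (Finset.range 1771).image fun s => gens.UF.E ctxJ.B (sCo ctxJ.S s)
  have hcls : ∀ y, y ∈ cls ↔ ∃ h ∈ hd.hSub, y = h⁻¹ * gens.UF.u * h := by
    intro y
    simp only [cls, Finset.mem_image, Finset.mem_range]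
    constructor
    · rintro ⟨s, hs, rfl⟩
      exact ⟨_, hd.ph_mem (hd.val_s hs), (hd.U_table s hs).symm⟩
    · rintro ⟨h, ⟨p, v, hv, rfl⟩, rfl⟩
      obtain ⟨a, ha⟩ := exists_repP (p : Equiv.Perm (Fin 24))
      obtain ⟨s', hs', hsame⟩ := hd.exists_entry p 0 (show 0 < 1771 by norm_num) a ha
      refine ⟨s', hs', ?_⟩
      have va : gens.UF.Val a := ⟨p, ha⟩
      have v0 := hd.val_s (show 0 < 1771 by norm_num)
      have hU : gens.UF.U (sPerm ctxJ.P ctxJ.S s') = (gens.UF.φ p)⁻¹ * gens.UF.u * gens.UF.φ p := by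
        rw [← gens.UF.U_eq (gens.UF.val_pmul v0 va) (hd.val_s hs') (sextEq_iff.mpr hsame),
          gens.UF.U_pmul v0 va, sext_zero.1, gens.UF.U_pone]
        rw [show gens.UF.ph a = gens.UF.φ p from gens.UF.ph_eq ha]
      rw [← hd.U_table s' hs', mul_inv_rev, hU]
      have hmem : (gens.UF.φ p)⁻¹ * gens.UF.u * gens.UF.φ p ∈ hd.vSub := by
        rw [← hU, hd.U_table s' hs']
        exact hd.E_mem _
      have hc := hd.v_comm hmem hv
      calc (gens.UF.φ p)⁻¹ * gens.UF.u * gens.UF.φ p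
          = v⁻¹ * (v * ((gens.UF.φ p)⁻¹ * gens.UF.u * gens.UF.φ p)) := by group
        _ = v⁻¹ * ((gens.UF.φ p)⁻¹ * gens.UF.u * gens.UF.φ p * v) := by rw [hc]
        _ = v⁻¹ * (gens.UF.φ p)⁻¹ * gens.UF.u * (gens.UF.φ p * v) := by group
  have hcard : cls.card = 1771 := by
    rw [Finset.card_image_of_injOn, Finset.card_range]
    intro a ha b hb e
    have ha' : a < 1771 := by simpa using ha
    have hb' : b < 1771 := by simpa using hb
    have := hd.E_inj Inst.u_ne_one hirrJ (sCo_lt ha').1 (sCo_lt hb').1 e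
    rw [← (sCo_lt ha').2, this, (sCo_lt hb').2]
  let T : Fin 7 → Finset Cfsg.Spor.J4 := fun n =>
    if n = 0 then cls else (Dat.hitL.getD n []).toFinset.image (gens.UF.E ctxJ.B)
  have hT : ∀ (n : Fin 7) (y : Cfsg.Spor.J4), y ∈ cls →
      (Inst.dc.g n)⁻¹ * y * Inst.dc.g n ∈ cls → y ∈ T n := by
    intro n y hy hy'
    simp only [T]
    split
    · exact hy
    · next hne =>
      simp only [cls, Finset.mem_image, Finset.mem_range] at hy hy'
      obtain ⟨s, hs, rfl⟩ := hy
      obtain ⟨s', hs', e⟩ := hy'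
      have h1 : 1 ≤ (n : Nat) := Nat.pos_of_ne_zero fun h => hne (Fin.ext h)
      exact Finset.mem_image.mpr ⟨_, List.mem_toFinset.mpr (ret_mem hinj h1 n.2 hs hs' e.symm), rfl⟩
  have hTc : ∀ n : Fin 7, (T n).card ≤ [1771, 7, 0, 0, 1, 0, 0].getD n.val 0 := by
    intro n
    simp only [T]
    split
    · next h => subst h; exact hcard.le
    · next hne =>
      refine Finset.card_image_le.trans ((List.toFinset_card_le _).trans ?_)
      exact (by decide +kernel : ∀ n : Fin 7, n ≠ 0 →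
        (Dat.hitL.getD n []).length ≤ [1771, 7, 0, 0, 1, 0, 0].getD n.val 0) n hne
  have hmain := card_centralizer_le Inst.dc gens.UF.u cls hcls T hT
  rw [hd.card_hSub rfl Inst.u_ne_one hirrJ, hcard] at hmain
  have hsum : (∑ n, sizeE n * (T n).card) ≤ 136367 := by
    refine (Finset.sum_le_sum fun n _ => Nat.mul_le_mul_left _ (hTc n)).trans ?_
    decide +kernel
  rw [el_five hinj]
  refine Nat.le_of_mul_le_mul_right ((hmain.trans (Nat.mul_le_mul_right _ hsum)).trans (le_of_eq ?_))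
    (show 0 < 1771 * 1771 by norm_num)
  norm_num

end CfsgLib.Coset.J4Cent
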