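import Cfsg.Agent.Coset.J4Cent.Kit
import Cfsg.Agent.Coset.J4Cent.BoundData
import Cfsg.Agent.Coset.J4.Idents

/-!
Boolean checks for the returning members of the class of the sextet element at each node.
-/

set_option autoImplicit false
set_option maxRecDepth 100000

namespace CfsgLib.Coset.J4Cent

open CfsgLib.Coset CfsgLib.Coset.J4 CfsgLib.Coset.J4.Mat

section Kernel

/-- The letters of coordinates. -/
noncomputable def bitsW (c : Nat) : List Nat :=
  List.rec [] (fun k _ r => cond (Nat.testBit c k) (Nat.add 5 k :: r) r) pts11

/-- The fixed vector of `2^11:M24`. -/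
def fv : Nat := 0xffffffff

/-- The fixed vector moved by the inverse of a node. -/
noncomputable def nv (n : Nat) : Nat := vwt Dat.tabL fv (Dat.nodeWi.getD n [])

/-- The separating vector moved by a conjugated member of the class. -/
noncomputable def sepVal (n c : Nat) : Nat :=
  vwt Dat.tabL (vwt Dat.tabL (vwt Dat.tabL Dat.sepV (Dat.nodeWi.getD n [])) (bitsW c))
    (Dat.nodeW.getD n [])

/-- A coordinate is listed, or the member moves the vector of the node, or its conjugate is not in
the class. -/
noncomputable def retOK (n v c : Nat) : Bool :=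
  cond (memB c (Dat.hitL.getD n [])) true
    (cond (Nat.beq (vwt Dat.tabL v (bitsW c)) v)
      (Dat.valT.all fun a => !(Nat.beq a (sepVal n c))) true)

/-- The check for all members. -/
noncomputable def nodeOK (n : Nat) : Bool :=
  Nat.rec (motive := fun _ => Bool) (allBelow 11 1771 fun s => retOK n 0 (sCo ctxJ.S s))
    (fun v _ => allBelow 11 1771 fun s => retOK n (Nat.add v 1) (sCo ctxJ.S s)) (nv n)

/-- An entry of the value table. -/
noncomputable def valOK (c : Nat) : Bool :=
  Nat.beq (vwt Dat.tabL Dat.sepV (bitsW c)) (Dat.valT.get c)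

/-- An entry of the inverse table. -/
noncomputable def invOK (s : Nat) : Bool :=
  cond (Nat.ble (Nat.add (sCo ctxJ.S s) 1) 2048) (Nat.beq (Dat.invT.get (sCo ctxJ.S s)) s) false

/-- One step in the sextet table. -/
noncomputable def stepS (l s : Nat) : Nat :=
  cond (Nat.beq l 0) (sNx ctxJ.S s) (sNy ctxJ.S s)

/-- A path to a member of the basis. -/
noncomputable def pathS (p : List Nat) : Nat :=
  List.rec (fun s => s) (fun l _ ih s => ih (stepS l s)) p 0

/-- The checks of a basis letter. -/
noncomputable def basisOK (k : Nat) : Bool :=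
  cond (Nat.beq (pathS (Dat.pathL.getD k [])) k)
    (cond (allList (fun l => Nat.ble l 1) (Dat.pathL.getD k []))
      (cond (Nat.beq k 0) (allList (fun l => Nat.beq l 4) (Dat.wdL.getD 1 [])) true) false) false

end Kernel

end CfsgLib.Coset.J4Cent
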