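import Cfsg.Agent.Coset.J4Cent.BoundKit

/-!
The tables of the class and of the basis letters.
-/

set_option autoImplicit false
set_option maxRecDepth 100000
set_option Elab.async false

namespace CfsgLib.Coset.J4Cent

open CfsgLib.Coset CfsgLib.Coset.J4

theorem val_ok : allBelow 11 1771 (fun s => valOK (sCo ctxJ.S s)) = true := by decide +kernel

theorem inv_ok : allBelow 11 1771 invOK = true := by decide +kernel

theorem basis_ok : allBelow 4 11 basisOK = true := by decide +kernel

theorem hit_count : (Dat.hitL.map List.length) = [0, 7, 0, 0, 1, 0, 0] := by decide +kernel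

theorem node_perm : ∀ n, n < 7 → 1 ≤ n →
    gP (Dat.nodeL.getD n (0, 0, 0)).2.1 = wordP (Dat.nodePW.getD n []) := by decide +kernel

theorem node_word : ∀ n, n < 7 → 1 ≤ n →
    Dat.nodeW.getD n [] = Dat.nodeW.getD (Dat.nodeL.getD n (0, 0, 0)).1 [] ++
      Dat.nodePW.getD n [] ++ bitsW (Dat.nodeL.getD n (0, 0, 0)).2.2 ++ [3] := by decide +kernel

theorem node_fixed : allList (fun l => Nat.beq (vwt Dat.tabL fv [l]) fv)
    [0, 1, 2, 5, 6, 7, 8, 9, 10, 11, 12, 13, 14, 15] = true := by decide +kernel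

theorem sext_zero : sPerm ctxJ.P ctxJ.S 0 = pone ∧ sCo ctxJ.S 0 = 1 := by decide +kernel

end CfsgLib.Coset.J4Cent
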