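import Cfsg.Agent.Coset.J4Cent.BoundTables
import Cfsg.Agent.Coset.J4.Instance

/-!
The named letters are the elements of the double coset frame of the presented group.
-/

set_option autoImplicit false
set_option maxRecDepth 100000
set_option Elab.async false
set_option linter.style.haveILetI false

namespace CfsgLib.Coset.J4Cent

open CfsgLib.Coset CfsgLib.Coset.J4 CfsgLib.Coset.J4.Mat
open CfsgLib.Coset.J4.Inst (gens)

/-- The inverse of a word in the first two letters. -/
def invW01 (p : List Nat) : List Nat := p.reverse.map (2 * ·)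

theorem def_words : ∀ k < 11, Dat.wdL.getD (1 + k) [] =
    invW01 (Dat.pathL.getD k []) ++ [4] ++ Dat.pathL.getD k [] := by decide +kernel

theorem u_word_ok : eqW [4] (Inst.uWord ++ Inst.uWord ++ Inst.uWord) = true := by decide +kernel

theorem xx_ok : eqW [0, 0] [] = true := by decide +kernel

theorem node_inv_ok : allBelow 3 7
    (fun n => eqW (Dat.nodeW.getD n [] ++ Dat.nodeWi.getD n []) []) = true := by decide +kernel

theorem node_lt : ∀ n < 7, lettersLT (Dat.nodeW.getD n []) 32 = true ∧
    lettersLT (Dat.nodeWi.getD n []) 32 = true := by decide +kernel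

theorem gen_perms : gP 1 = wordP [0] ∧ gP 2 = wordP [1] := by decide +kernel

theorem el_four {l : Nat} (hl : l < 4) : EL l = els4.getD l 1 := by
  rw [EL, els, getD_elsOf_take Dat.wdL 0 (by omega) (Nat.zero_le _), List.take_zero]
  rfl

theorem el_x : EL 0 = gens.x := by rw [el_four (by norm_num), Inst.gens_x]; rfl
theorem el_y : EL 1 = gens.y := by rw [el_four (by norm_num), Inst.gens_y]; rfl
theorem el_yi : EL 2 = gens.y⁻¹ := by rw [el_four (by norm_num), Inst.gens_y]; rfl
theorem el_t : EL 3 = gens.UF.t := by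
  rw [el_four (by norm_num)]
  show _ = gens.t
  rw [Inst.gens_t]
  rfl

theorem W_wordJ : ∀ w : List Nat, (∀ l ∈ w, l < 4) → W w = MultJ.wordJ w := by
  intro w hw
  rw [W, wprod, MultJ.wordJ]
  exact congrArg List.prod (List.map_congr_left fun l hl => el_four (hw l hl))

theorem ph_wordP {w : List Nat} (hw : ∀ l ∈ w, l < 3) : gens.UF.ph (wordP w) = W w := by
  show gens.TF.ph (wordP w) = _
  rw [(val_word gens w hw).2, W, wprod]
  refine congrArg List.prod (List.map_congr_left fun l hl => ?_)
  have := hw l hl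
  show _ = EL l
  interval_cases l
  · exact el_x.symm
  · exact el_y.symm
  · exact el_yi.symm

section

variable (hinj : Function.Injective repJ4)

include hinj

theorem el_u : EL 4 = gens.u := by
  rw [← W_one, eqW_spec hinj u_word_ok, W_wordJ _ (by decide +kernel), Inst.wordJ_uWord]

theorem W_invW01 : ∀ p : List Nat, (∀ l ∈ p, l ≤ 1) → W (invW01 p) = (W p)⁻¹ := by
  intro p
  induction p with
  | nil => intro _; simp [invW01, W_nil]
  | cons l p ih =>
    intro hp
    have hl := hp l (by simp)
    rw [invW01, List.reverse_cons, List.map_append, ← invW01, W_append, List.map_cons, List.map_nil,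
      W_one, W_cons, ih (fun x hx => hp x (by simp [hx])), mul_inv_rev]
    congr 1
    interval_cases l
    · refine (inv_eq_of_mul_eq_one_right ?_).symm
      rw [← W_two]
      exact eqW_spec hinj xx_ok
    · rw [el_y, el_yi]

omit hinj in
theorem step_U {l s : Nat} (hl : l ≤ 1) (hs : s < 1771) :
    stepS l s < 1771 ∧ gens.UF.U (sPerm ctxJ.P ctxJ.S (stepS l s)) =
      (EL l)⁻¹ * gens.UF.U (sPerm ctxJ.P ctxJ.S s) * EL l := by
  obtain ⟨-, h1, h2, h3, h4, -⟩ := (udata gens).tab_at (s := s) hs
  have hp : ∀ g, gP g = wordP [l] → sPerm ctxJ.P ctxJ.S s = sPerm ctxJ.P ctxJ.S s →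
      ∀ s', s' < 1771 → SameS (pmul (sPerm ctxJ.P ctxJ.S s) (gP g)) (sPerm ctxJ.P ctxJ.S s') →
        gens.UF.U (sPerm ctxJ.P ctxJ.S s') =
          (EL l)⁻¹ * gens.UF.U (sPerm ctxJ.P ctxJ.S s) * EL l := by
    intro g hg _ s' hs' h
    have vg : gens.UF.Val (gP g) := hg ▸ (val_word gens [l] (by simp; omega)).1
    rw [← gens.UF.U_eq (gens.UF.val_pmul ((udata gens).val_s hs) vg) ((udata gens).val_s hs')
      (sextEq_iff.mpr h), gens.UF.U_pmul ((udata gens).val_s hs) vg]
    have e : gens.UF.ph (gP g) = EL l := by rw [hg, ph_wordP (by simp; omega), W_one]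
    show (gens.UF.ph (gP g))⁻¹ * _ * gens.UF.ph (gP g) = _
    rw [e]
  interval_cases l
  · exact ⟨h1, hp 1 gen_perms.1 rfl _ h1 h3⟩
  · exact ⟨h2, hp 2 gen_perms.2 rfl _ h2 h4⟩

omit hinj in
theorem path_U : ∀ (p : List Nat), (∀ l ∈ p, l ≤ 1) → ∀ s < 1771,
    (List.rec (fun s => s) (fun l _ ih s => ih (stepS l s)) p s : Nat) < 1771 ∧
      gens.UF.U (sPerm ctxJ.P ctxJ.S
        (List.rec (fun s => s) (fun l _ ih s => ih (stepS l s)) p s)) =
        (W p)⁻¹ * gens.UF.U (sPerm ctxJ.P ctxJ.S s) * W p := by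
  intro p
  induction p with
  | nil => intro _ s hs; exact ⟨hs, by simp [W_nil]⟩
  | cons l p ih =>
    intro hp s hs
    obtain ⟨h1, h2⟩ := step_U (hp l (by simp)) hs
    obtain ⟨h3, h4⟩ := ih (fun x hx => hp x (by simp [hx])) _ h1
    refine ⟨h3, ?_⟩
    show gens.UF.U (sPerm ctxJ.P ctxJ.S
      (List.rec (fun s => s) (fun l _ ih s => ih (stepS l s)) p (stepS l s))) = _
    rw [h4, h2, W_cons]
    group

theorem basis_U {k : Nat} (hk : k < 11) :
    gens.UF.U (ctxJ.B.getD k 0) = EL (5 + k) := by
  have h := of_allBelow basis_ok k hk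
  simp only [basisOK, cond_false_eq_true] at h
  obtain ⟨h1, h2, -⟩ := h
  have hp : ∀ l ∈ Dat.pathL.getD k [], l ≤ 1 := fun l hl =>
    Nat.ble_eq.mp (allList_iff.mp h2 l hl)
  obtain ⟨-, h3⟩ := path_U _ hp 0 (by norm_num)
  rw [((udata gens).tab_at (s := k) (show k < 1771 by omega)).2.2.2.2.2.2 hk]
  change gens.UF.U (sPerm ctxJ.P ctxJ.S (pathS (Dat.pathL.getD k []))) = _ at h3
  rw [Nat.eq_of_beq_eq_true h1, sext_zero.1, gens.UF.U_pone] at h3
  have hd := W_def (j := 1 + k) (show 1 + k < Dat.wdL.length by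
    have : Dat.wdL.length = 28 := by decide +kernel
    omega)
    ((by decide +kernel : ∀ k < 11, ∀ l ∈ Dat.wdL.getD (1 + k) [], l < 4 + (1 + k)) k hk)
  rw [show 4 + (1 + k) = 5 + k by omega, def_words k hk, W_append, W_append,
    W_invW01 hinj _ hp, W_one, el_u hinj] at hd
  rw [h3, hd]
  rfl

theorem E_word (c : Nat) : gens.UF.E ctxJ.B c = W (bitsW c) := by
  have key : ∀ l : List Nat, (∀ k ∈ l, k < 11) →
      (l.map (gens.UF.bitU ctxJ.B c)).prod =
        W (List.rec [] (fun k _ r => cond (Nat.testBit c k) (Nat.add 5 k :: r) r) l) := by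
    intro l
    induction l with
    | nil => intro _; rfl
    | cons k l ih =>
      intro hl
      rw [List.map_cons, List.prod_cons, ih fun x hx => hl x (by simp [hx])]
      show _ = W (cond (Nat.testBit c k) _ _)
      unfold UFrame.bitU
      cases c.testBit k with
      | true =>
        rw [if_pos rfl, cond_true, W_cons, basis_U hinj (hl k (by simp))]
        rfl
      | false => rw [if_neg Bool.false_ne_true, cond_false, one_mul]
  exact key pts11 (by decide)

theorem node_W : ∀ n < 7, gens.UF.node ctxJ n = W (Dat.nodeW.getD n []) := by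
  intro n
  induction n using Nat.strong_induction_on with
  | _ n ih =>
    intro hn
    rcases Nat.eq_zero_or_pos n with rfl | h0
    · rfl
    have hlen : ctxJ.nodes.length = 7 := by decide +kernel
    have hp := (cdata gens).parent n h0 (by omega)
    rw [(cdata gens).node_step h0 (by omega), ih _ hp (by omega), node_word n hn h0]
    show W _ * (gens.UF.ph (gP (Dat.nodeL.getD n (0, 0, 0)).2.1) *
      gens.UF.E ctxJ.B (Dat.nodeL.getD n (0, 0, 0)).2.2) * gens.UF.t = _
    have hl : ∀ l ∈ Dat.nodePW.getD n [], l < 3 := fun l hl =>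
      (by decide +kernel : ∀ n < 7, ∀ l ∈ Dat.nodePW.getD n [], l < 3) n hn l hl
    rw [node_perm n hn h0, ph_wordP hl, E_word hinj, ← el_t, W_append, W_append, W_append, W_one]
    show W (Dat.nodeW.getD (Dat.nodeL.getD n (0, 0, 0)).1 []) * _ * _ = _
    group

theorem node_inv (n : Nat) (hn : n < 7) :
    W (Dat.nodeWi.getD n []) = (gens.UF.node ctxJ n)⁻¹ := by
  rw [node_W hinj n hn]
  refine (inv_eq_of_mul_eq_one_right ?_).symm
  rw [← W_append]
  exact eqW_spec hinj (of_allBelow node_inv_ok n hn)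

/-- The named involution is the sextet element. -/
theorem el_five : EL 5 = gens.UF.u := by
  rw [show 5 = 5 + 0 from rfl, ← basis_U hinj (by norm_num)]
  have h := ((udata gens).tab_at (s := 0) (show 0 < 1771 by norm_num)).2.2.2.2.2.2 (by norm_num)
  rw [h, sext_zero.1, gens.UF.U_pone]

end

end CfsgLib.Coset.J4Cent
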