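import Mathlib.GroupTheory.GroupAction.Basic
import Mathlib.GroupTheory.Index
import Mathlib.Data.List.GetD
import Mathlib.Algebra.Group.Subgroup.Basic
import Mathlib.Algebra.BigOperators.Group.List.Basic
import Mathlib.Algebra.Group.Submonoid.BigOperators
import Mathlib.Data.Fintype.Perm

/-!
A lower bound for the order of a group of permutations from transversals along a base.
-/

set_option autoImplicit false

namespace CfsgLib.Coset.J4Cent

variable {α : Type*}

/-- The permutations of a word in a list of generators. -/
def wordPerm (gs : List (Equiv.Perm α)) (w : List Nat) : Equiv.Perm α :=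
  (w.map fun l => gs.getD l 1).prod

theorem wordPerm_mem {gs : List (Equiv.Perm α)} {H : Subgroup (Equiv.Perm α)}
    (h : ∀ g ∈ gs, g ∈ H) (w : List Nat) : wordPerm gs w ∈ H := by
  refine list_prod_mem fun g hg => ?_
  obtain ⟨l, -, rfl⟩ := List.mem_map.mp hg
  rcases lt_or_ge l gs.length with hl | hl
  · rw [List.getD_eq_getElem _ _ hl]; exact h _ (List.getElem_mem hl)
  · rw [List.getD_eq_default _ _ hl]; exact one_mem _

/-- The elements fixing the points of a list. -/
def fixing (H : Subgroup (Equiv.Perm α)) (F : List α) : Set (Equiv.Perm α) :=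
  {p | p ∈ H ∧ ∀ b ∈ F, p b = b}

/-- The check of a chain of transversals. -/
def chainB [DecidableEq α] (gs : List (Equiv.Perm α)) :
    List α → List (α × List (List Nat)) → Bool
  | _, [] => true
  | F, (b, ws) :: rest =>
    ws.all (fun w => F.all fun a => decide (wordPerm gs w a = a)) &&
      decide (ws.map fun w => wordPerm gs w b).Nodup && chainB gs (b :: F) rest

theorem chain_le [Finite α] [DecidableEq α] {gs : List (Equiv.Perm α)}
    {H : Subgroup (Equiv.Perm α)} (hH : ∀ g ∈ gs, g ∈ H) :
    ∀ (L : List (α × List (List Nat))) (F : List α), chainB gs F L = true →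
      (L.map fun e => e.2.length).prod ≤ Nat.card (fixing H F) := by
  intro L
  induction L with
  | nil =>
    intro F _
    have : Nonempty (fixing H F) := ⟨⟨1, one_mem H, fun b _ => rfl⟩⟩
    exact Nat.card_pos
  | cons e L ih =>
    intro F h
    obtain ⟨b, ws⟩ := e
    simp only [chainB, Bool.and_eq_true, List.all_eq_true, decide_eq_true_eq] at h
    obtain ⟨⟨hfix, hnd⟩, hrest⟩ := h
    rw [List.map_cons, List.prod_cons]
    refine le_trans (Nat.mul_le_mul_left _ (ih _ hrest)) ?_
    let f : Fin ws.length × fixing H (b :: F) → fixing H F := fun q =>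
      ⟨wordPerm gs ws[q.1] * (q.2 : Equiv.Perm α), mul_mem (wordPerm_mem hH _) q.2.2.1, fun a ha => by
        rw [Equiv.Perm.mul_apply, q.2.2.2 a (List.mem_cons_of_mem _ ha)]
        exact hfix _ (List.getElem_mem _) a ha⟩
    have hf : Function.Injective f := by
      rintro ⟨i, p⟩ ⟨j, q⟩ e
      have e' : wordPerm gs ws[i] * (p : Equiv.Perm α) = wordPerm gs ws[j] * q :=
        congrArg Subtype.val e
      have hb := congrArg (fun r : Equiv.Perm α => r b) e'
      simp only [Equiv.Perm.mul_apply, p.2.2 b List.mem_cons_self, q.2.2 b List.mem_cons_self] at hb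
      obtain rfl : i = j := Fin.ext ((hnd.getElem_inj_iff (hi := by simp) (hj := by simp)).mp
        (by simpa using hb))
      exact Prod.ext rfl (Subtype.ext (mul_left_cancel e'))
    have := Nat.card_le_card_of_injective f hf
    rwa [Nat.card_prod, Nat.card_fin] at this

theorem chain_card [Finite α] [DecidableEq α] {gs : List (Equiv.Perm α)}
    {H : Subgroup (Equiv.Perm α)} (hH : ∀ g ∈ gs, g ∈ H) {L : List (α × List (List Nat))}
    (h : chainB gs [] L = true) : (L.map fun e => e.2.length).prod ≤ Nat.card H := by
  refine (chain_le hH L [] h).trans (le_of_eq ?_)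
  exact Nat.card_congr (Equiv.subtypeEquivRight fun p => by simp [fixing])

end CfsgLib.Coset.J4Cent
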