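import Cfsg.Agent.Coset.J4Cent.Letters
import Cfsg.Agent.Coset.J4Cent.Words

/-!
The named letters are the values of their words (part 0).
-/

set_option autoImplicit false
set_option maxRecDepth 100000
set_option Elab.async false

namespace CfsgLib.Coset.J4Cent

theorem def0_ok : defOK Dat.tabL Dat.wdL 0 = true := by decide +kernel

theorem def1_ok : defOK Dat.tabL Dat.wdL 1 = true := by decide +kernel

theorem def2_ok : defOK Dat.tabL Dat.wdL 2 = true := by decide +kernel

theorem def3_ok : defOK Dat.tabL Dat.wdL 3 = true := by decide +kernel

theorem def4_ok : defOK Dat.tabL Dat.wdL 4 = true := by decide +kernel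

theorem def5_ok : defOK Dat.tabL Dat.wdL 5 = true := by decide +kernel

theorem def6_ok : defOK Dat.tabL Dat.wdL 6 = true := by decide +kernel

theorem tab0_ok : tabOK (Dat.tabL.getD 0 []) = true := by decide +kernel

theorem tab1_ok : tabOK (Dat.tabL.getD 1 []) = true := by decide +kernel

theorem tab2_ok : tabOK (Dat.tabL.getD 2 []) = true := by decide +kernel

theorem tab3_ok : tabOK (Dat.tabL.getD 3 []) = true := by decide +kernel

theorem tab4_ok : tabOK (Dat.tabL.getD 4 []) = true := by decide +kernel

theorem tab5_ok : tabOK (Dat.tabL.getD 5 []) = true := by decide +kernel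

theorem tab6_ok : tabOK (Dat.tabL.getD 6 []) = true := by decide +kernel

theorem tab7_ok : tabOK (Dat.tabL.getD 7 []) = true := by decide +kernel

end CfsgLib.Coset.J4Cent
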