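import Cfsg.Agent.Coset.J4Cent.Letters
import Cfsg.Agent.Coset.J4Cent.Words

/-!
The named letters are the values of their words (part 1).
-/

set_option autoImplicit false
set_option maxRecDepth 100000
set_option Elab.async false

namespace CfsgLib.Coset.J4Cent

theorem def7_ok : defOK Dat.tabL Dat.wdL 7 = true := by decide +kernel

theorem def8_ok : defOK Dat.tabL Dat.wdL 8 = true := by decide +kernel

theorem def9_ok : defOK Dat.tabL Dat.wdL 9 = true := by decide +kernel

theorem def10_ok : defOK Dat.tabL Dat.wdL 10 = true := by decide +kernel

theorem def11_ok : defOK Dat.tabL Dat.wdL 11 = true := by decide +kernel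

theorem def12_ok : defOK Dat.tabL Dat.wdL 12 = true := by decide +kernel

theorem def13_ok : defOK Dat.tabL Dat.wdL 13 = true := by decide +kernel

theorem tab8_ok : tabOK (Dat.tabL.getD 8 []) = true := by decide +kernel

theorem tab9_ok : tabOK (Dat.tabL.getD 9 []) = true := by decide +kernel

theorem tab10_ok : tabOK (Dat.tabL.getD 10 []) = true := by decide +kernel

theorem tab11_ok : tabOK (Dat.tabL.getD 11 []) = true := by decide +kernel

theorem tab12_ok : tabOK (Dat.tabL.getD 12 []) = true := by decide +kernel

theorem tab13_ok : tabOK (Dat.tabL.getD 13 []) = true := by decide +kernel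

theorem tab14_ok : tabOK (Dat.tabL.getD 14 []) = true := by decide +kernel

theorem tab15_ok : tabOK (Dat.tabL.getD 15 []) = true := by decide +kernel

end CfsgLib.Coset.J4Cent
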