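import Cfsg.Agent.Coset.J4Cent.Letters
import Cfsg.Agent.Coset.J4Cent.Words

/-!
The named letters are the values of their words (part 2).
-/

set_option autoImplicit false
set_option maxRecDepth 100000
set_option Elab.async false

namespace CfsgLib.Coset.J4Cent

theorem def14_ok : defOK Dat.tabL Dat.wdL 14 = true := by decide +kernel

theorem def15_ok : defOK Dat.tabL Dat.wdL 15 = true := by decide +kernel

theorem def16_ok : defOK Dat.tabL Dat.wdL 16 = true := by decide +kernel

theorem def17_ok : defOK Dat.tabL Dat.wdL 17 = true := by decide +kernel

theorem def18_ok : defOK Dat.tabL Dat.wdL 18 = true := by decide +kernel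

theorem def19_ok : defOK Dat.tabL Dat.wdL 19 = true := by decide +kernel

theorem def20_ok : defOK Dat.tabL Dat.wdL 20 = true := by decide +kernel

theorem tab16_ok : tabOK (Dat.tabL.getD 16 []) = true := by decide +kernel

theorem tab17_ok : tabOK (Dat.tabL.getD 17 []) = true := by decide +kernel

theorem tab18_ok : tabOK (Dat.tabL.getD 18 []) = true := by decide +kernel

theorem tab19_ok : tabOK (Dat.tabL.getD 19 []) = true := by decide +kernel

theorem tab20_ok : tabOK (Dat.tabL.getD 20 []) = true := by decide +kernel

theorem tab21_ok : tabOK (Dat.tabL.getD 21 []) = true := by decide +kernel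

theorem tab22_ok : tabOK (Dat.tabL.getD 22 []) = true := by decide +kernel

theorem tab23_ok : tabOK (Dat.tabL.getD 23 []) = true := by decide +kernel

end CfsgLib.Coset.J4Cent
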