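import Cfsg.Agent.Coset.J4Cent.Letters
import Cfsg.Agent.Coset.J4Cent.Words

/-!
The named letters are the values of their words (part 3).
-/

set_option autoImplicit false
set_option maxRecDepth 100000
set_option Elab.async false

namespace CfsgLib.Coset.J4Cent

theorem def21_ok : defOK Dat.tabL Dat.wdL 21 = true := by decide +kernel

theorem def22_ok : defOK Dat.tabL Dat.wdL 22 = true := by decide +kernel

theorem def23_ok : defOK Dat.tabL Dat.wdL 23 = true := by decide +kernel

theorem def24_ok : defOK Dat.tabL Dat.wdL 24 = true := by decide +kernel

theorem def25_ok : defOK Dat.tabL Dat.wdL 25 = true := by decide +kernel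

theorem def26_ok : defOK Dat.tabL Dat.wdL 26 = true := by decide +kernel

theorem def27_ok : defOK Dat.tabL Dat.wdL 27 = true := by decide +kernel

theorem tab24_ok : tabOK (Dat.tabL.getD 24 []) = true := by decide +kernel

theorem tab25_ok : tabOK (Dat.tabL.getD 25 []) = true := by decide +kernel

theorem tab26_ok : tabOK (Dat.tabL.getD 26 []) = true := by decide +kernel

theorem tab27_ok : tabOK (Dat.tabL.getD 27 []) = true := by decide +kernel

theorem tab28_ok : tabOK (Dat.tabL.getD 28 []) = true := by decide +kernel

theorem tab29_ok : tabOK (Dat.tabL.getD 29 []) = true := by decide +kernel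

theorem tab30_ok : tabOK (Dat.tabL.getD 30 []) = true := by decide +kernel

theorem tab31_ok : tabOK (Dat.tabL.getD 31 []) = true := by decide +kernel

end CfsgLib.Coset.J4Cent
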