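import Cfsg.Agent.Coset.Th.CentAbs

/-!
An extraspecial group from a symplectic list of generators.
-/

set_option autoImplicit false
set_option linter.style.haveILetI false

namespace CfsgLib.Coset.J4Cent

variable {G : Type*} [Group G] {z : G} {m : ℕ} {a b : Fin m → G}

/-- Elements whose squares are trivial and whose commutators are given by the standard form. -/
structure Sympl (z : G) (a b : Fin m → G) : Prop where
  hz : orderOf z = 2
  za : ∀ i, a i * z = z * a i
  zb : ∀ i, b i * z = z * b i
  sa : ∀ i, a i * a i = 1
  sb : ∀ i, b i * b i = 1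
  caa : ∀ i j, a i * a j = a j * a i
  cbb : ∀ i j, b i * b j = b j * b i
  cab : ∀ i j, i ≠ j → a i * b j = b j * a i
  hab : ∀ i, a i * b i = z * (b i * a i)

/-- The generated subgroup. -/
def extSub (z : G) (a b : Fin m → G) : Subgroup G :=
  Subgroup.closure (insert z (Set.range a ∪ Set.range b))

/-- The product of the chosen members of a commuting family. -/
def pick (g : Fin m → G) (e : Fin m → Bool) : G :=
  ((List.finRange m).map fun i => if e i then g i else 1).prod

theorem commute_pick {g : Fin m → G} {x : G} {e : Fin m → Bool}
    (h : ∀ i, e i = true → g i * x = x * g i) : pick g e * x = x * pick g e := by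
  refine (Commute.list_prod_left _ _ fun y hy => ?_ : Commute (pick g e) x)
  obtain ⟨i, -, rfl⟩ := List.mem_map.mp hy
  cases he : e i with
  | false => exact Commute.one_left _
  | true => exact h i he

theorem pick_conj {g : Fin m → G} {x : G} {k : Fin m} {w : G} (hk : g k * x = w * (x * g k))
    (ho : ∀ i, i ≠ k → g i * x = x * g i) (hw : ∀ i, g i * w = w * g i) {e : Fin m → Bool}
    (he : e k = true) : pick g e * x = w * (x * pick g e) := by
  have key : ∀ l : List (Fin m), l.Nodup →
      (l.map fun i => if e i then g i else 1).prod * x =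
        (if k ∈ l then w else 1) * (x * (l.map fun i => if e i then g i else 1).prod) := by
    intro l
    induction l with
    | nil => intro _; simp
    | cons i l ih =>
      intro hl
      obtain ⟨hi, hl⟩ := List.nodup_cons.mp hl
      rw [List.map_cons, List.prod_cons, mul_assoc, ih hl]
      rcases eq_or_ne i k with rfl | hne
      · rw [if_neg hi, one_mul, ← mul_assoc, if_pos he, hk, if_pos (List.mem_cons_self ..)]
        simp only [mul_assoc]
      · have hc : (if e i then g i else 1) * x = x * (if e i then g i else 1) := by
          split <;> [exact ho i hne; simp]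
        have hc' : (if e i then g i else 1) * (if k ∈ l then w else 1) =
            (if k ∈ l then w else 1) * (if e i then g i else 1) := by
          split <;> split <;> simp [hw]
        rw [← mul_assoc, hc', mul_assoc, ← mul_assoc _ x, hc, mul_assoc x]
        simp [Ne.symm hne]
  have := key (List.finRange m) (List.nodup_finRange m)
  rwa [if_pos (List.mem_finRange k)] at this

theorem Sympl.pick_mem (_h : Sympl z a b) (e f : Fin m → Bool) (c : Bool) :
    (if c then z else 1) * (pick a e * pick b f) ∈ extSub z a b := by
  refine mul_mem (by split <;> [exact Subgroup.subset_closure (Set.mem_insert _ _); exact one_mem _]) ?_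
  refine mul_mem (list_prod_mem fun y hy => ?_) (list_prod_mem fun y hy => ?_) <;>
    obtain ⟨i, -, rfl⟩ := List.mem_map.mp hy <;> split
  all_goals first
    | exact one_mem _
    | exact Subgroup.subset_closure (Or.inr (Or.inl ⟨i, rfl⟩))
    | exact Subgroup.subset_closure (Or.inr (Or.inr ⟨i, rfl⟩))

theorem Sympl.zne (h : Sympl z a b) : z ≠ 1 := fun e => by simpa [e] using h.hz

theorem Sympl.zz (h : Sympl z a b) : z * z = 1 := by rw [← pow_two, ← h.hz, pow_orderOf_eq_one]

theorem Sympl.hba (h : Sympl z a b) (i : Fin m) : b i * a i = z * (a i * b i) := by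
  rw [h.hab i, ← mul_assoc, h.zz, one_mul]

/-- Commutation with the generators reads off the exponents. -/
theorem Sympl.read (h : Sympl z a b) (c : Bool) (e f : Fin m → Bool) (k : Fin m) :
    (((if c then z else 1) * (pick a e * pick b f)) * b k =
        b k * ((if c then z else 1) * (pick a e * pick b f)) ↔ e k = false) ∧
      (((if c then z else 1) * (pick a e * pick b f)) * a k =
        a k * ((if c then z else 1) * (pick a e * pick b f)) ↔ f k = false) := by
  have hzb : b k * (if c then z else 1) = (if c then z else 1) * b k := by
    cases c <;> simp [h.zb]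
  have hza : a k * (if c then z else 1) = (if c then z else 1) * a k := by
    cases c <;> simp [h.za]
  have ea : pick a e * a k = a k * pick a e := commute_pick fun i _ => h.caa i k
  have eb : pick b f * b k = b k * pick b f := commute_pick fun i _ => h.cbb i k
  constructor
  · rw [← mul_assoc (b k), hzb, mul_assoc, mul_assoc (if c then z else 1) (b k),
      mul_right_inj, mul_assoc, eb, ← mul_assoc, ← mul_assoc, mul_left_inj]
    cases he : e k with
    | false =>
      simp only [iff_true]
      exact commute_pick fun i hi => by
        rcases eq_or_ne i k with rfl | hne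
        · rw [he] at hi; exact Bool.noConfusion hi
        · exact h.cab i k hne
    | true =>
      simp only [Bool.true_eq_false, iff_false]
      rw [pick_conj (h.hab k) (fun i hne => h.cab i k hne) h.za he]
      exact fun he' => h.zne (mul_eq_right.mp he')
  · rw [← mul_assoc (a k), hza, mul_assoc, mul_assoc (if c then z else 1) (a k),
      mul_right_inj, ← mul_assoc (a k), ← ea, mul_assoc, mul_assoc (pick a e), mul_right_inj]
    cases hf : f k with
    | false =>
      simp only [iff_true]
      exact commute_pick fun i hi => by
        rcases eq_or_ne i k with rfl | hne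
        · rw [hf] at hi; exact Bool.noConfusion hi
        · exact (h.cab k i (Ne.symm hne)).symm
    | true =>
      simp only [Bool.true_eq_false, iff_false]
      rw [pick_conj (h.hba k) (fun i hne => (h.cab k i (Ne.symm hne)).symm) h.zb hf]
      exact fun he' => h.zne (mul_eq_right.mp he')

theorem pick_mul {g : Fin m → G} (hc : ∀ i j, g i * g j = g j * g i) (hs : ∀ i, g i * g i = 1)
    (e : Fin m → Bool) (k : Fin m) :
    pick g e * g k = pick g (Function.update e k (!e k)) := by
  have key : ∀ l : List (Fin m), l.Nodup →
      (l.map fun i => if Function.update e k (!e k) i then g i else 1).prod =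
        (l.map fun i => if e i then g i else 1).prod * (if k ∈ l then g k else 1) := by
    intro l
    induction l with
    | nil => intro _; simp
    | cons i l ih =>
      intro hl
      obtain ⟨hi, hl⟩ := List.nodup_cons.mp hl
      rw [List.map_cons, List.prod_cons, List.map_cons, List.prod_cons, ih hl]
      rcases eq_or_ne i k with rfl | hne
      · have hcom : Commute (g i) (l.map fun j => if e j then g j else 1).prod :=
          Commute.list_prod_right _ _ fun y hy => by
            obtain ⟨j, -, rfl⟩ := List.mem_map.mp hy
            split <;> [exact hc i j; exact Commute.one_right _]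
        rw [if_neg hi, mul_one, if_pos (List.mem_cons_self ..), Function.update_self]
        cases e i
        · simpa using hcom.eq
        · simp only [Bool.not_true, Bool.false_eq_true, if_false, one_mul, if_true]
          rw [mul_assoc, ← hcom.eq, ← mul_assoc, hs, one_mul]
      · simp [Function.update_of_ne hne, Ne.symm hne, mul_assoc]
  have := key (List.finRange m) (List.nodup_finRange m)
  rw [if_pos (List.mem_finRange k)] at this
  exact this.symm

theorem Sympl.exists_form (h : Sympl z a b) {g : G} (hg : g ∈ extSub z a b) :
    ∃ (c : Bool) (e f : Fin m → Bool), g = (if c then z else 1) * (pick a e * pick b f) := by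
  have gen : ∀ g, (∃ (c : Bool) (e f : Fin m → Bool), g = (if c then z else 1) * (pick a e * pick b f)) →
      ∀ y ∈ insert z (Set.range a ∪ Set.range b),
        ∃ (c : Bool) (e f : Fin m → Bool), g * y = (if c then z else 1) * (pick a e * pick b f) := by
    rintro g ⟨c, e, f, rfl⟩ y hy
    have hZ : (pick a e * pick b f) * z = z * (pick a e * pick b f) := by
      rw [mul_assoc, commute_pick (fun i _ => h.zb i), ← mul_assoc,
        commute_pick (fun i _ => h.za i), mul_assoc]
    have hzz : (if c then z else 1) * z = if (!c) then z else 1 := by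
      cases c <;> simp [h.zz]
    rcases hy with rfl | ⟨k, rfl⟩ | ⟨k, rfl⟩
    · exact ⟨!c, e, f, by rw [mul_assoc, hZ, ← mul_assoc, hzz]⟩
    · cases hf : f k with
      | false =>
        refine ⟨c, Function.update e k (!e k), f, ?_⟩
        rw [mul_assoc, mul_assoc (pick a e), commute_pick (g := b) (x := a k) (fun i hi => ?_), ← mul_assoc (pick a e),
          pick_mul h.caa h.sa]
        rcases eq_or_ne i k with rfl | hne
        · rw [hf] at hi; exact Bool.noConfusion hi
        · exact (h.cab k i (Ne.symm hne)).symm
      | true =>
        refine ⟨!c, Function.update e k (!e k), f, ?_⟩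
        rw [mul_assoc, mul_assoc (pick a e),
          pick_conj (h.hba k) (fun i hne => (h.cab k i (Ne.symm hne)).symm) h.zb hf,
          ← mul_assoc (pick a e) z, commute_pick (fun i _ => h.za i), mul_assoc z,
          ← mul_assoc (if c then z else 1) z, hzz, ← mul_assoc (pick a e), pick_mul h.caa h.sa]
    · exact ⟨c, e, Function.update f k (!f k), by
        rw [mul_assoc, mul_assoc (pick a e), pick_mul h.cbb h.sb]⟩
  have hone : (1 : G) = (if (false : Bool) then z else 1) * (pick a (fun _ => false) * pick b fun _ => false) := by
    simp [pick]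
  induction hg using Subgroup.closure_induction_right with
  | one => exact ⟨_, _, _, hone⟩
  | mul_right y hy x hx ih => exact gen y ih x hx
  | mul_inv_cancel y hy x hx ih =>
    have hinv : x⁻¹ = x := by
      refine inv_eq_of_mul_eq_one_right ?_
      rcases hx with rfl | ⟨k, rfl⟩ | ⟨k, rfl⟩
      exacts [h.zz, h.sa k, h.sb k]
    rw [hinv]
    exact gen y ih x hx

theorem pick_false (u : Fin m → G) : pick u (fun _ => false) = 1 := by simp [pick]

theorem Sympl.form_inj (h : Sympl z a b) :
    Function.Injective fun p : Bool × (Fin m → Bool) × (Fin m → Bool) =>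
      (if p.1 then z else 1) * (pick a p.2.1 * pick b p.2.2) := by
  rintro ⟨c, e, f⟩ ⟨c', e', f'⟩ he
  have h1 := fun k => h.read c e f k
  have h2 := fun k => h.read c' e' f' k
  simp only at he
  rw [he] at h1
  obtain rfl : e = e' := funext fun k => by
    have := (h1 k).1.symm.trans (h2 k).1
    revert this
    cases e k <;> cases e' k <;> simp
  obtain rfl : f = f' := funext fun k => by
    have := (h1 k).2.symm.trans (h2 k).2
    revert this
    cases f k <;> cases f' k <;> simp
  have := mul_right_cancel he
  cases c <;> cases c' <;> simp [h.zne, h.zne.symm] at this ⊢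

theorem Sympl.card_extSub (h : Sympl z a b) : Nat.card (extSub z a b) = 2 ^ (2 * m + 1) := by
  let F : Bool × (Fin m → Bool) × (Fin m → Bool) → extSub z a b := fun p =>
    ⟨_, h.pick_mem p.2.1 p.2.2 p.1⟩
  have hF : Function.Bijective F := by
    refine ⟨fun p q e => h.form_inj (congrArg Subtype.val e), fun g => ?_⟩
    obtain ⟨c, e, f, hg⟩ := h.exists_form g.2
    exact ⟨(c, e, f), Subtype.ext hg.symm⟩
  rw [← Nat.card_eq_of_bijective F hF]
  simp only [Nat.card_eq_fintype_card, Fintype.card_prod, Fintype.card_bool, Fintype.card_fun,
    Fintype.card_fin]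
  ring

theorem Sympl.z_mem (_h : Sympl z a b) : z ∈ extSub z a b :=
  Subgroup.subset_closure (Set.mem_insert _ _)

theorem Sympl.extraspecial [Finite G] (h : Sympl z a b) (hm : 0 < m) :
    Cfsg.IsExtraspecial 2 (extSub z a b) := by
  refine CfsgLib.Coset.Th.CentAbs.isExtraspecial_closure h.hz rfl h.z_mem ?_ ?_ ?_ ?_ ?_
  · rintro g (rfl | ⟨k, rfl⟩ | ⟨k, rfl⟩)
    exacts [rfl, h.za k, h.zb k]
  · rintro g (rfl | ⟨k, rfl⟩ | ⟨k, rfl⟩)
    exacts [Or.inl h.zz, Or.inl (h.sa k), Or.inl (h.sb k)]
  · rintro g (rfl | ⟨i, rfl⟩ | ⟨i, rfl⟩) u (rfl | ⟨j, rfl⟩ | ⟨j, rfl⟩)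
    · exact Or.inl rfl
    · exact Or.inl (h.za j).symm
    · exact Or.inl (h.zb j).symm
    · exact Or.inl (h.za i)
    · exact Or.inl (h.caa i j)
    · rcases eq_or_ne i j with rfl | hne
      exacts [Or.inr (h.hab i), Or.inl (h.cab i j hne)]
    · exact Or.inl (h.zb i)
    · rcases eq_or_ne j i with rfl | hne
      exacts [Or.inr (h.hba j), Or.inl (h.cab j i hne).symm]
    · exact Or.inl (h.cbb i j)
  · intro g hg hc
    obtain ⟨c, e, f, rfl⟩ := h.exists_form hg
    obtain rfl : e = fun _ => false := funext fun k =>
      (h.read c e f k).1.mp (hc _ (Or.inr (Or.inr ⟨k, rfl⟩)))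
    obtain rfl : f = fun _ => false := funext fun k =>
      (h.read c _ f k).2.mp (hc _ (Or.inr (Or.inl ⟨k, rfl⟩)))
    cases c <;> simp [pick_false]
  · refine ⟨a ⟨0, hm⟩, Or.inr (Or.inl ⟨_, rfl⟩), fun e => ?_, fun e => ?_⟩ <;>
      have h' := h.hab ⟨0, hm⟩ <;> rw [e] at h'
    · simp [h.zne] at h'
    · rw [← h.zb] at h'
      simp [h.zne] at h'

end CfsgLib.Coset.J4Cent
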