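import Cfsg.Agent.Coset.J4.RepKernel
import Cfsg.Agent.Coset.Table
import Mathlib.Tactic.IntervalCases
import Mathlib.Tactic.Ring

/-!
Row vectors times matrices over two elements, four bits at a time from packed tables.
-/

set_option autoImplicit false

namespace CfsgLib.Coset.J4Cent

open CfsgLib.Coset CfsgLib.Coset.J4.Mat

section Kernel

/-- The low 112 bits. -/
def msk : Nat := 0xffffffffffffffffffffffffffff

/-- The entry of a table for four bits. -/
noncomputable def lane (a j : Nat) : Nat := Nat.land (Nat.shiftRight a (Nat.mul 112 j)) msk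

/-- Product with the matrix of a list of tables. -/
noncomputable def vt (T : List Nat) : Nat → Nat :=
  List.rec (fun _ => 0)
    (fun a _ ih v => Nat.xor (lane a (Nat.land v 15)) (ih (Nat.shiftRight v 4))) T

/-- Follow a word. -/
noncomputable def vwt (L : List (List Nat)) (v : Nat) (w : List Nat) : Nat :=
  List.rec (fun v => v)
    (fun l _ ih v => Nat.rec (motive := fun _ => Nat) (ih 0) (fun n _ => ih (Nat.add n 1))
      (vt (L.getD l []) v)) w v

/-- The rows encoded by the tables. -/
noncomputable def rowsOf (T : List Nat) : List Nat :=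
  List.rec [] (fun a _ ih => lane a 1 :: lane a 2 :: lane a 4 :: lane a 8 :: ih) T

/-- The entries of the tables are sums of their rows. -/
noncomputable def tblOK (T : List Nat) : Bool :=
  allList (fun a => allBelow 4 16 fun j =>
    Nat.beq (lane a j) (vm [lane a 1, lane a 2, lane a 4, lane a 8] j)) T

/-- Two words take the first 112 unit vectors to the same vectors. -/
noncomputable def sameW (L : List (List Nat)) (a b : List Nat) : Bool :=
  allBelow 7 112 fun i => Nat.beq (vwt L (Nat.pow 2 i) a) (vwt L (Nat.pow 2 i) b)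

end Kernel

theorem land_shift_one (v k : Nat) (hk : k < 4) :
    Nat.land (Nat.shiftRight (Nat.land v 15) k) 1 = Nat.land (Nat.shiftRight v k) 1 := by
  show ((v &&& 15) >>> k) &&& 1 = (v >>> k) &&& 1
  interval_cases k <;>
    simp only [Nat.shiftRight_and_distrib, Nat.and_assoc] <;> rfl

theorem vm_four (a b c d : Nat) (rs : List Nat) (v : Nat) :
    vm (a :: b :: c :: d :: rs) v = vm [a, b, c, d] (Nat.land v 15) ^^^ vm rs (Nat.shiftRight v 4) := by
  have h0 := land_shift_one v 0 (by norm_num)
  have h1 := land_shift_one v 1 (by norm_num)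
  have h2 := land_shift_one v 2 (by norm_num)
  have h3 := land_shift_one v 3 (by norm_num)
  simp only [show ∀ x y, Nat.land x y = x &&& y from fun _ _ => rfl,
    show ∀ x y, Nat.shiftRight x y = x >>> y from fun _ _ => rfl] at h0 h1 h2 h3 ⊢
  simp only [Nat.shiftRight_zero] at h0
  simp only [vm_cons, vm_nil, ← Nat.shiftRight_add, h0, h1, h2, h3]
  cases Nat.beq (v &&& 1) 1 <;> cases Nat.beq (v >>> 1 &&& 1) 1 <;>
    cases Nat.beq (v >>> (1 + 1) &&& 1) 1 <;> cases Nat.beq (v >>> (1 + 1 + 1) &&& 1) 1 <;>
      simp [Nat.xor_assoc, Nat.shiftRight_add]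

theorem vt_cons (a : Nat) (T : List Nat) (v : Nat) :
    vt (a :: T) v = lane a (Nat.land v 15) ^^^ vt T (Nat.shiftRight v 4) := rfl

theorem rowsOf_cons (a : Nat) (T : List Nat) :
    rowsOf (a :: T) = lane a 1 :: lane a 2 :: lane a 4 :: lane a 8 :: rowsOf T := rfl

theorem rowsOf_length : ∀ T : List Nat, (rowsOf T).length = 4 * T.length := by
  intro T
  induction T with
  | nil => rfl
  | cons a T ih => rw [rowsOf_cons]; simp [ih]; ring

theorem vt_eq : ∀ {T : List Nat}, tblOK T = true → ∀ v, vt T v = vm (rowsOf T) v := by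
  intro T
  induction T with
  | nil => intro _ v; rfl
  | cons a T ih =>
    intro h v
    have h' := allList_iff.mp h
    have hj : Nat.land v 15 < 16 := Nat.lt_succ_of_le Nat.and_le_right
    have e := Nat.eq_of_beq_eq_true (of_allBelow (h' a List.mem_cons_self) _ hj)
    rw [vt_cons, rowsOf_cons, vm_four, ← e,
      ih (allList_iff.mpr fun x hx => h' x (List.mem_cons_of_mem _ hx))]

theorem vwt_cons (L : List (List Nat)) (l : Nat) (w : List Nat) (v : Nat) :
    vwt L v (l :: w) = vwt L (vt (L.getD l []) v) w := by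
  show Nat.rec (motive := fun _ => Nat) (vwt L 0 w) (fun n _ => vwt L (n + 1) w)
    (vt (L.getD l []) v) = _
  cases vt (L.getD l []) v <;> rfl

theorem rowVec_vwt {G : Type*} [Group G] {L : List (List Nat)} {els : List G}
    {ρ : G →* Matrix (Fin 112) (Fin 112) (ZMod 2)}
    (hok : ∀ l < L.length, (L.getD l []).length = 28 ∧ tblOK (L.getD l []) = true ∧
      ρ (els.getD l 1) = matOf 112 (rowsOf (L.getD l []))) :
    ∀ (w : List Nat), (∀ l ∈ w, l < L.length) → ∀ v, rowVec 112 (vwt L v w) =
      Matrix.vecMul (rowVec 112 v) (ρ (w.map fun l => els.getD l 1).prod) := by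
  intro w
  induction w with
  | nil => intro _ v; simp [vwt]
  | cons l w ih =>
    intro h v
    obtain ⟨h1, h2, h3⟩ := hok l (h l (by simp))
    rw [vwt_cons, ih (fun x hx => h x (by simp [hx])), vt_eq h2, rowVec_vm
      (by rw [rowsOf_length, h1]), List.map_cons, List.prod_cons, map_mul, h3,
      Matrix.vecMul_vecMul]

end CfsgLib.Coset.J4Cent
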