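import Cfsg.Agent.Coset.J4Cent.Bridge

/-!
The subgroup `2^11:M24` fixes a vector; bounds on the packed vectors.
-/

set_option autoImplicit false
set_option maxRecDepth 100000
set_option Elab.async false

namespace CfsgLib.Coset.J4Cent

open CfsgLib.Coset CfsgLib.Coset.J4 CfsgLib.Coset.J4.Mat
open CfsgLib.Coset.J4.Inst (gens)

theorem lane_lt (a j : Nat) : lane a j < 2 ^ 112 := by
  refine lt_of_le_of_lt (Nat.and_le_right : lane a j ≤ msk) ?_
  decide +kernel

theorem vt_lt : ∀ (T : List Nat) (v : Nat), vt T v < 2 ^ 112 := by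
  intro T
  induction T with
  | nil => intro v; exact Nat.two_pow_pos _
  | cons a T ih => intro v; rw [vt_cons]; exact Nat.xor_lt_two_pow (lane_lt _ _) (ih _)

theorem vwt_lt (L : List (List Nat)) : ∀ (w : List Nat) (v : Nat), v < 2 ^ 112 →
    vwt L v w < 2 ^ 112 := by
  intro w
  induction w with
  | nil => intro v hv; exact hv
  | cons l w ih => intro v _; rw [vwt_cons]; exact ih _ (vt_lt _ _)

/-- The elements fixing a vector. -/
noncomputable def fixVec (v : Nat) : Subgroup Cfsg.Spor.J4 where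
  carrier := {g | Matrix.vecMul (rowVec 112 v) (rho g) = rowVec 112 v}
  one_mem' := by simp
  mul_mem' := by
    intro a b ha hb
    show Matrix.vecMul _ (rho (a * b)) = _
    rw [map_mul, ← Matrix.vecMul_vecMul]
    exact (congrArg (Matrix.vecMul · (rho b)) ha).trans hb
  inv_mem' := by
    intro a ha
    show Matrix.vecMul _ (rho a⁻¹) = _
    conv_lhs => rw [← (ha : Matrix.vecMul (rowVec 112 v) (rho a) = _)]
    rw [Matrix.vecMul_vecMul, ← map_mul, mul_inv_cancel, map_one, Matrix.vecMul_one]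

theorem el_fix {l : Nat} (hl : l ∈ [0, 1, 2, 5, 6, 7, 8, 9, 10, 11, 12, 13, 14, 15]) :
    EL l ∈ fixVec fv := by
  have hlt : lettersLT [l] 32 = true :=
    (by decide +kernel : ∀ l ∈ [0, 1, 2, 5, 6, 7, 8, 9, 10, 11, 12, 13, 14, 15],
      lettersLT [l] 32 = true) l hl
  have := vwt_vec hlt (Nat.eq_of_beq_eq_true (allList_iff.mp node_fixed l hl))
  rw [W_one] at this
  exact this

theorem bitsW_mem (c : Nat) : ∀ l ∈ bitsW c, 5 ≤ l ∧ l < 16 := by
  have key : ∀ ps : List Nat, (∀ k ∈ ps, k < 11) → ∀ l ∈ (List.rec []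
      (fun k _ r => cond (Nat.testBit c k) (Nat.add 5 k :: r) r) ps : List Nat),
      5 ≤ l ∧ l < 16 := by
    intro ps
    induction ps with
    | nil => intro _ l hl; exact absurd hl List.not_mem_nil
    | cons k ps ih =>
      intro hp l hl
      change l ∈ cond (Nat.testBit c k) _ _ at hl
      cases hb : c.testBit k with
      | true =>
        rw [hb, cond_true] at hl
        rcases List.mem_cons.mp hl with rfl | hl
        · have := hp k (by simp)
          show 5 ≤ 5 + k ∧ 5 + k < 16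
          omega
        · exact ih (fun x hx => hp x (by simp [hx])) l hl
      | false =>
        rw [hb, cond_false] at hl
        exact ih (fun x hx => hp x (by simp [hx])) l hl
  exact key pts11 (by decide)

theorem bitsW_lt (c : Nat) : lettersLT (bitsW c) 32 = true :=
  allList_iff.mpr fun l hl => Nat.ble_eq.mpr (show l + 1 ≤ 32 by have := (bitsW_mem c l hl).2; omega)

theorem hSub_fix (hinj : Function.Injective repJ4) : (udata gens).hSub ≤ fixVec fv := by
  rw [(udata gens).hSub_eq, Subgroup.closure_le]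
  rintro _ ⟨⟨a, c⟩, ha, rfl⟩
  show gens.UF.ph a * gens.UF.E ctxJ.B c ∈ fixVec fv
  refine mul_mem ?_ ?_
  · obtain ⟨p, hp⟩ := ha
    rw [gens.UF.ph_eq hp]
    suffices h : ∀ q ∈ Subgroup.closure ({Xp, Yp} : Set (Equiv.Perm (Fin 24))),
        ∃ hq : q ∈ M24m, gens.φ ⟨q, hq⟩ ∈ fixVec fv by
      exact (h p p.2).2
    intro q hq
    induction hq using Subgroup.closure_induction with
    | mem g hg =>
      rcases hg with rfl | rfl
      · exact ⟨Xp_mem, by rw [gens.φX, ← el_x]; exact el_fix (by decide)⟩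
      · exact ⟨Yp_mem, by rw [gens.φY, ← el_y]; exact el_fix (by decide)⟩
    | one =>
      exact ⟨one_mem _, by
        rw [show (⟨1, one_mem _⟩ : M24m) = 1 from rfl, map_one]; exact one_mem _⟩
    | mul a b _ _ ha hb =>
      obtain ⟨h1, e1⟩ := ha
      obtain ⟨h2, e2⟩ := hb
      exact ⟨mul_mem h1 h2, by
        rw [show (⟨a * b, mul_mem h1 h2⟩ : M24m) = ⟨a, h1⟩ * ⟨b, h2⟩ from rfl, map_mul]
        exact mul_mem e1 e2⟩
    | inv a _ ha =>
      obtain ⟨h1, e1⟩ := ha
      exact ⟨inv_mem h1, by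
        rw [show (⟨a⁻¹, inv_mem h1⟩ : M24m) = (⟨a, h1⟩ : M24m)⁻¹ from rfl, map_inv]
        exact inv_mem e1⟩
  · rw [E_word hinj]
    refine list_prod_mem fun g hg => ?_
    obtain ⟨l, hl, rfl⟩ := List.mem_map.mp hg
    obtain ⟨h5, h16⟩ := bitsW_mem c l hl
    exact el_fix (by interval_cases l <;> decide)

end CfsgLib.Coset.J4Cent
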