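import Cfsg.Agent.Coset.J4Cent.Chain
import Cfsg.Prelude.Def_Sporadic_a
import Mathlib.Data.Finset.Card

/-!
Seventy-seven hexads on twenty-two points and four permutations preserving them which generate a
group of order at least 887040.
-/

set_option autoImplicit false
set_option maxRecDepth 100000

namespace CfsgLib.Coset.J4Cent

/-- The hexads as masks. -/
def hexM : List Nat := [63, 963, 7237, 58371, 460803, 3674115, 9612, 598086, 671877, 1319429, 2195717, 528600, 70930, 9840, 49740, 1249292, 2885644, 591369, 2229766, 1067270, 299142, 151650, 1311818, 2132050, 529188, 150552, 3146520, 368664, 77985, 534801, 1187986, 803346, 527522, 67944, 49584, 1316912, 2818096, 1706560, 2429504, 68244, 14858, 2236489, 1083529, 282889, 1130577, 819297, 3145956, 1147426, 2367778, 2360465, 393556,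 2179210, 688394, 1180961, 174116, 345124, 221952, 298752, 2116129, 168465, 2135080, 1597480, 393896, 1900928, 2234752, 930816, 645120, 288960, 2639168, 1070720, 1093952, 3222528, 3588096, 2663040, 2125844, 1606676, 230592]

/-- A hexad. -/
def hexS (i : Fin 77) : Finset (Fin 22) :=
  Finset.univ.filter fun p => (hexM.getD i 0).testBit p

theorem mem_hexS {i : Fin 77} {p : Fin 22} : p ∈ hexS i ↔ (hexM.getD i 0).testBit p = true := by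
  simp [hexS]

theorem hexS_card : ∀ i, (hexS i).card = 6 := by decide +kernel

theorem hexS_sep : ∀ p q : Fin 22, p ≠ q →
    ∃ i : Fin 77, (hexM.getD i 0).testBit p = true ∧ (hexM.getD i 0).testBit q = false := by
  decide +kernel

/-- The hexads containing three points. -/
def through (a b c : Fin 22) : List Nat :=
  (List.range 77).filter fun i =>
    (hexM.getD i 0).testBit a && (hexM.getD i 0).testBit b && (hexM.getD i 0).testBit c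

theorem through_one : ∀ a b c : Fin 22, a ≠ b → a ≠ c → b ≠ c →
    (through a b c).length = 1 := by
  decide +kernel

theorem steiner : Cfsg.IsSteinerSystem 3 6 (Set.range hexS) := by
  refine ⟨?_, fun s hs => ?_⟩
  · rintro _ ⟨i, rfl⟩
    exact hexS_card i
  obtain ⟨a, b, c, hab, hac, hbc, rfl⟩ := Finset.card_eq_three.mp hs
  obtain ⟨k, hk⟩ := List.length_eq_one_iff.mp (through_one a b c hab hac hbc)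
  have hiff : ∀ i : Fin 77, ({a, b, c} : Finset (Fin 22)) ⊆ hexS i ↔ (i : Nat) = k := fun i => by
    have : (i : Nat) ∈ through a b c ↔ (i : Nat) = k := by rw [hk, List.mem_singleton]
    rw [← this, through, List.mem_filter, List.mem_range]
    simp [Finset.insert_subset_iff, mem_hexS, and_assoc]
  have hk77 : k < 77 := by
    have : k ∈ through a b c := by rw [hk]; exact List.mem_singleton_self k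
    exact List.mem_range.mp (List.mem_filter.mp this).1
  refine ⟨hexS ⟨k, hk77⟩, ⟨⟨_, rfl⟩, (hiff _).mpr rfl⟩, ?_⟩
  rintro _ ⟨⟨i, rfl⟩, hi⟩
  exact congrArg hexS (Fin.ext ((hiff i).mp hi))

/-- A permutation from the lists of its values and of the values of its inverse. -/
def permOf22 (f g : List (Fin 22)) (h1 : ∀ p : Fin 22, g.getD (f.getD p 0 : Fin 22) 0 = p)
    (h2 : ∀ p : Fin 22, f.getD (g.getD p 0 : Fin 22) 0 = p) : Equiv.Perm (Fin 22) :=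
  ⟨fun p => f.getD p 0, fun p => g.getD p 0, h1, h2⟩

/-- A permutation of the points. -/
def piA : Equiv.Perm (Fin 22) := permOf22 [2, 0, 3, 4, 5, 1, 10, 6, 12, 11, 7, 8, 13, 19, 14, 17, 16, 15, 21, 9, 18, 20]
  [1, 5, 0, 2, 3, 4, 7, 10, 11, 19, 6, 9, 8, 12, 14, 17, 16, 15, 20, 13, 21, 18] (by decide +kernel) (by decide +kernel)

/-- A permutation of the points. -/
def piB : Equiv.Perm (Fin 22) := permOf22 [0, 2, 1, 4, 3, 5, 6, 12, 10, 11, 8, 9, 7, 16, 21, 15, 13, 20, 18, 19, 17, 14]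
  [0, 2, 1, 4, 3, 5, 6, 12, 10, 11, 8, 9, 7, 16, 21, 15, 13, 20, 18, 19, 17, 14] (by decide +kernel) (by decide +kernel)

/-- A permutation of the points. -/
def piC : Equiv.Perm (Fin 22) := permOf22 [1, 0, 6, 9, 8, 7, 2, 5, 4, 3, 13, 16, 19, 10, 14, 15, 11, 17, 18, 12, 20, 21]
  [1, 0, 6, 9, 8, 7, 2, 5, 4, 3, 13, 16, 19, 10, 14, 15, 11, 17, 18, 12, 20, 21] (by decide +kernel) (by decide +kernel)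

/-- A permutation of the points. -/
def piD : Equiv.Perm (Fin 22) := permOf22 [0, 1, 2, 3, 4, 5, 10, 14, 15, 13, 6, 12, 11, 9, 7, 8, 21, 19, 20, 17, 18, 16]
  [0, 1, 2, 3, 4, 5, 10, 14, 15, 13, 6, 12, 11, 9, 7, 8, 21, 19, 20, 17, 18, 16] (by decide +kernel) (by decide +kernel)

/-- The four permutations. -/
def pis : List (Equiv.Perm (Fin 22)) := [piA, piB, piC, piD]

/-- Transversals along a base. -/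
def chain22 : List (Fin 22 × List (List Nat)) :=
  [(0, [[], [0], [2], [0, 0], [2, 0], [0, 0, 0], [2, 0, 0], [0, 2, 0], [0, 0, 0, 0], [2, 0, 0, 0], [0, 2, 0, 0], [3, 2, 0, 0], [0, 0, 2, 0], [0, 2, 0, 0, 0], [3, 2, 0, 0, 0], [2, 0, 2, 0, 0], [0, 3, 2, 0, 0], [3, 0, 0, 2, 0], [0, 3, 2, 0, 0, 0], [3, 2, 0, 2, 0, 0], [1, 0, 3, 2, 0, 0, 0], [0, 1, 0, 3, 2, 0, 0, 0]]),
    (1, [[], [1], [0, 0, 0, 1, 0, 0], [2, 0, 0, 0, 0, 0], [0, 2, 0, 0, 2, 0, 3, 2, 0], [2, 1, 0, 1], [2, 3, 2, 1], [1, 0, 0, 0, 1, 0, 0], [0, 2, 0, 0, 0, 1, 0, 0], [2, 1, 0, 0, 0, 0, 1, 0, 0], [2, 0, 0, 0, 0, 0, 0, 0, 0, 1, 0, 0], [0, 2, 0, 0, 2, 0, 3, 2, 0, 0, 0, 0, 1, 0, 0], [1, 2, 0, 0, 0, 0, 0], [3, 2, 0, 0, 0, 0, 0], [0, 0, 0, 1, 0, 0, 2, 0, 0, 0, 0, 0], [0, 2, 0, 0, 2, 0, 3, 2, 0, 2, 0, 0, 0, 0, 0], [0, 0, 0, 0, 0,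 1, 2, 0, 2, 0, 0, 2, 0, 3, 2, 0], [0, 2, 0, 0, 2, 0, 3, 2, 0, 2, 1, 0, 1], [2, 3, 2, 0, 2, 0, 0, 0, 1, 0, 0], [0, 2, 0, 0, 2, 0, 3, 2, 0, 2, 1, 0, 0, 0, 0, 1, 0, 0], [0, 0, 0, 0, 1, 0, 0, 0, 0, 2, 0, 0, 2, 0, 3, 2, 0, 0, 0, 0, 1, 0, 0]]),
    (2, [[], [1, 0, 2], [2, 3, 2], [0, 0, 0, 0, 0, 1, 2], [0, 0, 0, 1, 0, 0, 1], [1, 0, 0, 0, 0, 1, 0, 0, 0], [3, 1, 0, 2], [1, 0, 2, 1, 0, 2], [1, 3, 1, 1, 0, 2], [0, 0, 0, 0, 0, 3, 0, 1, 0, 2], [1, 0, 0, 0, 0, 0, 3, 0, 1, 1, 0, 2], [1, 0, 0, 0, 0, 3, 0, 0, 1, 1, 0, 2], [1, 3, 1, 2, 3, 2], [0, 0, 0, 0, 0, 1, 2, 2, 3, 2], [1, 0, 0, 0, 0, 1, 0, 0, 0, 2, 3, 2], [1, 0, 0, 0, 0, 0, 3, 0, 1, 2, 3, 2], [1, 0, 0, 0, 0, 3, 0, 0, 1, 2, 3, 2], [0, 0, 0, 0, 3, 0, 0, 0, 0, 0, 0, 0, 1, 2], [1, 0, 0, 0, 0, 0, 3, 0, 1, 0, 0, 0, 0, 0, 1, 2], [1, 0, 0, 0, 0, 3,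 0, 0, 1, 0, 0, 0, 0, 0, 1, 2]]),
    (3, [[], [2, 3, 2, 0, 0, 0, 0, 3, 0, 0, 1, 0, 2], [1, 0, 2, 1, 0, 2, 1, 0, 2, 1, 0, 2, 2, 3, 2, 1, 3, 1, 2, 3, 2]]),
    (4, [[], [1, 0, 2, 1, 0, 2, 1, 0, 2, 1, 0, 2, 2, 3, 2, 1, 3, 1, 2, 3, 2, 2, 3, 2, 0, 0, 0, 0, 3, 0, 0, 1, 0, 2]]),
    (6, [[], [3], [1, 3, 1], [0, 0, 0, 0, 0, 3, 0], [0, 0, 0, 0, 3, 0, 0], [1, 0, 0, 0, 0, 0, 3, 0, 1], [1, 0, 0, 0, 0, 3, 0, 0, 1], [1, 0, 2, 1, 0, 2, 1, 0, 2, 1, 0, 2, 1, 0, 2, 2, 3, 2, 1, 0, 2], [2, 3, 2, 0, 0, 0, 0, 3, 0, 0, 1, 0, 2, 2, 3, 2, 0, 0, 0, 0, 3, 0, 0, 1, 0, 2], [1, 0, 2, 1, 0, 2, 1, 0, 2, 1, 0, 2, 2, 3, 2, 1, 3, 1, 2, 3, 2, 2, 3, 2, 0, 0, 0, 0, 3, 0, 0, 1, 0, 2, 1, 0, 2, 1, 0, 2, 1, 0, 2, 1, 0, 2, 2, 3, 2, 1, 3, 1, 2, 3, 2, 2, 3, 2, 0, 0, 0, 0, 3, 0, 0, 1, 0, 2], [1, 3, 1, 2, 3, 2, 1, 3, 1, 2, 3,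 2, 1, 3, 1, 2, 3, 2, 3, 0, 0, 0, 0, 0, 1, 2, 1, 0, 2, 1, 0, 2, 1, 0, 2, 1, 0, 2, 2, 3, 2, 1, 3, 1, 2, 3, 2, 1, 0, 2, 1, 0, 2, 1, 0, 2, 1, 0, 2, 2, 3, 2, 1, 3, 1, 2, 3, 2, 2, 3, 2, 0, 0, 0, 0, 3, 0, 0, 1, 0, 2], [1, 0, 2, 1, 0, 2, 1, 0, 2, 1, 0, 2, 2, 3, 2, 1, 3, 1, 2, 3, 2, 2, 3, 2, 0, 0, 0, 0, 3, 0, 0, 1, 0, 2, 1, 0, 2, 1, 0, 2, 1, 0, 2, 1, 0, 2, 2, 3, 2, 1, 3, 1, 2, 3, 2, 2, 3, 2, 0, 0, 0, 0, 3, 0, 0, 1, 0, 2, 1, 0, 2, 1, 0, 2, 1, 0, 2, 1, 0, 2, 2, 3, 2, 1, 3, 1, 2, 3, 2, 2, 3, 2, 0, 0, 0, 0, 3, 0, 0, 1, 0, 2, 3, 1, 0, 2, 3, 1, 0, 2, 3, 1, 0, 2, 1, 0, 2, 1, 0, 0, 0, 0, 3, 0, 0, 1, 2, 3, 2, 2, 3, 2, 0, 0, 0, 0, 3, 0, 0, 1, 0, 2], [1, 0, 2, 1, 0, 2, 1, 0, 2, 1, 0, 2, 2, 3, 2, 1, 3, 1, 2, 3, 2, 2, 3, 2, 0, 0, 0, 0, 3, 0, 0, 1, 0, 2, 1, 0, 2, 1, 0, 2, 1, 0, 2, 1, 0, 2, 2, 3, 2, 1,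 3, 1, 2, 3, 2, 2, 3, 2, 0, 0, 0, 0, 3, 0, 0, 1, 0, 2, 1, 0, 2, 1, 0, 2, 1, 0, 2, 1, 0, 2, 2, 3, 2, 1, 3, 1, 2, 3, 2, 2, 3, 2, 0, 0, 0, 0, 3, 0, 0, 1, 0, 2, 1, 0, 0, 0, 0, 0, 3, 0, 1, 1, 0, 2, 1, 0, 2, 1, 0, 2, 1, 0, 2, 2, 3, 2, 1, 3, 1, 2, 3, 2, 2, 3, 2, 0, 0, 0, 0, 3, 0, 0, 1, 0, 2], [1, 0, 0, 0, 0, 3, 0, 0, 1, 3], [1, 0, 2, 1, 0, 2, 1, 0, 2, 1, 0, 2, 2, 3, 2, 1, 3, 1, 2, 3, 2, 2, 3, 2, 0, 0, 0, 0, 3, 0, 0, 1, 0, 2, 1, 0, 2, 1, 0, 2, 1, 0, 2, 1, 0, 2, 2, 3, 2, 1, 3, 1, 2, 3, 2, 2, 3, 2, 0, 0, 0, 0, 3, 0, 0, 1, 0, 2, 3], [1, 3, 1, 2, 3, 2, 1, 3, 1, 2, 3, 2, 1, 3, 1, 2, 3, 2, 3, 0, 0, 0, 0, 0, 1, 2, 1, 0, 2, 1, 0, 2, 1, 0, 2, 1, 0, 2, 2, 3, 2, 1, 3, 1, 2, 3, 2, 1, 0, 2, 1, 0, 2, 1, 0, 2, 1, 0, 2, 2, 3, 2, 1, 3, 1, 2, 3, 2, 2, 3, 2, 0, 0, 0, 0, 3, 0, 0, 1, 0, 2, 3]])]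

theorem chain22_ok : chainB pis [] chain22 = true := by decide +kernel

theorem card_le_of_pis {H : Subgroup (Equiv.Perm (Fin 22))} (h : ∀ g ∈ pis, g ∈ H) :
    887040 ≤ Nat.card H :=
  le_trans (by decide +kernel) (chain_card h chain22_ok)

end CfsgLib.Coset.J4Cent
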