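import Cfsg.Agent.Coset.J4Cent.Sound

/-!
Equalities and inequalities of named elements from the tables, given faithfulness.
-/

set_option autoImplicit false
set_option maxRecDepth 100000

namespace CfsgLib.Coset.J4Cent

open CfsgLib.Coset CfsgLib.Coset.J4 CfsgLib.Coset.J4.Mat

/-- The value of a word in the named letters. -/
noncomputable def W (w : List Nat) : Cfsg.Spor.J4 := wprod els w

/-- A named element. -/
noncomputable def EL (l : Nat) : Cfsg.Spor.J4 := els.getD l 1

theorem W_nil : W [] = 1 := rfl

theorem W_cons (l : Nat) (w : List Nat) : W (l :: w) = EL l * W w := wprod_cons els l w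

theorem W_append (v w : List Nat) : W (v ++ w) = W v * W w := wprod_append els v w

theorem W_one (l : Nat) : W [l] = EL l := by rw [W_cons, W_nil, mul_one]

theorem W_two (k l : Nat) : W [k, l] = EL k * EL l := by rw [W_cons, W_one]

theorem W_def {j : Nat} (hj : j < Dat.wdL.length) (hlt : ∀ l ∈ Dat.wdL.getD j [], l < 4 + j) :
    EL (4 + j) = W (Dat.wdL.getD j []) :=
  getD_elsOf Dat.wdL hj hlt

section Kernel

/-- An equality of two words, with small letters. -/
noncomputable def eqW (v w : List Nat) : Bool :=
  cond (lettersLT v 32) (cond (lettersLT w 32) (sameW Dat.tabL v w) false) false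

/-- A word moves a small number to a different small number. -/
noncomputable def moveW (v : Nat) (w : List Nat) : Bool :=
  cond (lettersLT w 32) (cond (Nat.ble (Nat.add v 1) (Nat.pow 2 112))
    (cond (Nat.ble (Nat.add (vwt Dat.tabL v w) 1) (Nat.pow 2 112))
      (!(Nat.beq (vwt Dat.tabL v w) v)) false) false) false

end Kernel

theorem lettersLT_spec {w : List Nat} {n : Nat} (h : lettersLT w n = true) : ∀ l ∈ w, l < n :=
  fun l hl => Nat.ble_eq.mp (allList_iff.mp h l hl)

theorem rho_injective (hinj : Function.Injective repJ4) : Function.Injective rho := fun _ _ h =>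
  hinj (Units.ext h)

theorem eqW_spec (hinj : Function.Injective repJ4) {v w : List Nat} (h : eqW v w = true) :
    W v = W w := by
  simp only [eqW, cond_false_eq_true] at h
  exact rho_injective hinj
    (sound.rho_eq (lettersLT_spec h.1) (lettersLT_spec h.2.1) h.2.2)

theorem rowVec_inj {a b : Nat} (ha : a < 2 ^ 112) (hb : b < 2 ^ 112)
    (h : rowVec 112 a = rowVec 112 b) : a = b := by
  refine Nat.eq_of_testBit_eq fun j => ?_
  rcases lt_or_ge j 112 with hj | hj
  · have := congrFun h ⟨j, hj⟩
    revert this
    simp only [rowVec, bz]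
    cases a.testBit j <;> cases b.testBit j <;> simp
  · rw [Nat.testBit_eq_false_of_lt (ha.trans_le (Nat.pow_le_pow_right (by norm_num) hj)),
      Nat.testBit_eq_false_of_lt (hb.trans_le (Nat.pow_le_pow_right (by norm_num) hj))]

theorem moveW_spec {v : Nat} {w : List Nat} (h : moveW v w = true) : W w ≠ 1 := by
  simp only [moveW, cond_false_eq_true] at h
  obtain ⟨hw, h1, h2, h3⟩ := h
  intro e
  have hr := sound.run w (lettersLT_spec hw) v
  rw [show wprod els w = W w from rfl, e, map_one, Matrix.vecMul_one] at hr
  rw [rowVec_inj (Nat.ble_eq.mp h2) (Nat.ble_eq.mp h1) hr, Nat.beq_refl] at h3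
  exact Bool.noConfusion h3

/-- Reading an equality of vectors. -/
theorem vwt_vec {v v' : Nat} {w : List Nat} (hw : lettersLT w 32 = true)
    (h : vwt Dat.tabL v w = v') :
    Matrix.vecMul (rowVec 112 v) (rho (W w)) = rowVec 112 v' := by
  rw [← h]
  exact (sound.run w (lettersLT_spec hw) v).symm

end CfsgLib.Coset.J4Cent
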