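import Cfsg.Agent.Coset.J4Cent.FastMat
import Cfsg.Agent.Coset.J4.Rep

/-!
Elements of the presented group named by letters, their matrices, and faithful equality tests.
-/

set_option autoImplicit false
set_option maxRecDepth 100000

namespace CfsgLib.Coset.J4Cent

open CfsgLib.Coset CfsgLib.Coset.J4 CfsgLib.Coset.J4.Mat
open Cfsg.Spor.J4 (Gen)

/-- The representation as matrices. -/
noncomputable def rho : Cfsg.Spor.J4 →* Matrix (Fin 112) (Fin 112) (ZMod 2) :=
  (Units.coeHom _).comp repJ4

/-- The product of a word. -/
def wprod {G : Type*} [Group G] (els : List G) (w : List Nat) : G :=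
  (w.map fun l => els.getD l 1).prod

theorem wprod_nil {G : Type*} [Group G] (els : List G) : wprod els [] = 1 := rfl

theorem wprod_cons {G : Type*} [Group G] (els : List G) (l : Nat) (w : List Nat) :
    wprod els (l :: w) = els.getD l 1 * wprod els w := by
  simp [wprod]

theorem wprod_append {G : Type*} [Group G] (els : List G) (v w : List Nat) :
    wprod els (v ++ w) = wprod els v * wprod els w := by
  simp [wprod]

/-- The first four letters. -/
noncomputable def els4 : List Cfsg.Spor.J4 :=
  [PresentedGroup.of Gen.x, PresentedGroup.of Gen.y, (PresentedGroup.of Gen.y)⁻¹,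
    PresentedGroup.of Gen.t]

/-- Add the value of a word as a new letter. -/
noncomputable def addEl {G : Type*} [Group G] (es : List G) (w : List Nat) : List G :=
  es ++ [wprod es w]

/-- The letters with the words of the new ones. -/
noncomputable def elsOf (wds : List (List Nat)) : List Cfsg.Spor.J4 := wds.foldl addEl els4

section Kernel

/-- A table is well formed. -/
noncomputable def tabOK (T : List Nat) : Bool := cond (Nat.beq T.length 28) (tblOK T) false

/-- The letters of a word are small. -/
noncomputable def lettersLT (w : List Nat) (n : Nat) : Bool :=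
  allList (fun l => Nat.ble (Nat.add l 1) n) w

/-- The new letter `4 + j` is the value of its word. -/
noncomputable def defOK (L : List (List Nat)) (wds : List (List Nat)) (j : Nat) : Bool :=
  cond (lettersLT (wds.getD j []) (Nat.add 4 j))
    (sameW L [Nat.add 4 j] (wds.getD j [])) false

end Kernel

/-- The tables are those of the letters. -/
def Sound (L : List (List Nat)) (els : List Cfsg.Spor.J4) (n : Nat) : Prop :=
  ∀ l < n, (L.getD l []).length = 28 ∧ tblOK (L.getD l []) = true ∧
    rho (els.getD l 1) = matOf 112 (rowsOf (L.getD l []))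

theorem tabOK_spec {T : List Nat} (h : tabOK T = true) : T.length = 28 ∧ tblOK T = true := by
  rw [tabOK, cond_false_eq_true] at h
  exact ⟨Nat.eq_of_beq_eq_true h.1, h.2⟩

variable {L : List (List Nat)} {els : List Cfsg.Spor.J4} {n : Nat}

theorem Sound.run (h : Sound L els n) : ∀ (w : List Nat), (∀ l ∈ w, l < n) → ∀ v,
    rowVec 112 (vwt L v w) = Matrix.vecMul (rowVec 112 v) (rho (wprod els w)) := by
  intro w
  induction w with
  | nil => intro _ v; simp [vwt, wprod]
  | cons l w ih =>
    intro hw v
    obtain ⟨h1, h2, h3⟩ := h l (hw l (by simp))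
    rw [vwt_cons, ih (fun x hx => hw x (by simp [hx])), vt_eq h2,
      rowVec_vm (by rw [rowsOf_length, h1]), wprod_cons, map_mul, h3, Matrix.vecMul_vecMul]

theorem Sound.rho_eq (h : Sound L els n) {v w : List Nat} (hv : ∀ l ∈ v, l < n)
    (hw : ∀ l ∈ w, l < n) (hs : sameW L v w = true) :
    rho (wprod els v) = rho (wprod els w) := by
  refine Matrix.ext fun i j => ?_
  have e : vwt L (2 ^ (i : Nat)) v = vwt L (2 ^ (i : Nat)) w :=
    Nat.eq_of_beq_eq_true (of_allBelow hs i i.2)
  have h1 := h.run v hv (2 ^ (i : Nat))
  have h2 := h.run w hw (2 ^ (i : Nat))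
  rw [e, h2, rowVec_pow, Matrix.single_one_vecMul, Matrix.single_one_vecMul] at h1
  exact (congrFun h1 j).symm

theorem length_elsOf : ∀ wds : List (List Nat), (elsOf wds).length = 4 + wds.length := by
  intro wds
  induction wds using List.reverseRecOn with
  | nil => rfl
  | append_singleton wds w ih =>
    rw [elsOf, List.foldl_append]
    show (addEl (elsOf wds) w).length = _
    simp [addEl, ih, add_assoc]

theorem getD_elsOf_take (wds : List (List Nat)) : ∀ (k : Nat) {l : Nat}, l < 4 + k →
    k ≤ wds.length → (elsOf wds).getD l 1 = (elsOf (wds.take k)).getD l 1 := by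
  induction wds using List.reverseRecOn with
  | nil => intro k l _ _; rw [List.take_nil]
  | append_singleton wds w ih =>
    intro k l hl hk
    rw [List.length_append, List.length_singleton] at hk
    rcases Nat.lt_or_ge k (wds.length + 1) with hlt | hge
    · rw [List.take_append_of_le_length (by omega), ← ih k hl (by omega), elsOf, List.foldl_append]
      show (addEl (elsOf wds) w).getD l 1 = _
      rw [addEl, List.getD_append _ _ _ _ (by rw [length_elsOf]; omega)]
    · rw [List.take_of_length_le (by simp; omega)]

/-- Elements of a new letter. -/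
theorem getD_elsOf (wds : List (List Nat)) {j : Nat} (hj : j < wds.length)
    (hlt : ∀ l ∈ wds.getD j [], l < 4 + j) :
    (elsOf wds).getD (4 + j) 1 = wprod (elsOf wds) (wds.getD j []) := by
  have e : wds.take (j + 1) = wds.take j ++ [wds.getD j []] := by
    rw [List.getD_eq_getElem _ _ hj, List.take_append_getElem hj]
  rw [getD_elsOf_take wds (j + 1) (by omega) hj, e]
  conv_lhs => rw [elsOf, List.foldl_append]
  show (addEl (elsOf (wds.take j)) (wds.getD j [])).getD (4 + j) 1 = _
  have hlen : (elsOf (wds.take j)).length = 4 + j := by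
    rw [length_elsOf, List.length_take, Nat.min_eq_left hj.le]
  rw [addEl, List.getD_append_right _ _ _ _ hlen.le, hlen, Nat.sub_self, List.getD_cons_zero,
    wprod, wprod]
  exact congrArg List.prod (List.map_congr_left fun l hl =>
    (getD_elsOf_take wds j (hlt l hl) hj.le).symm)

theorem sound_elsOf {L wds : List (List Nat)} (hlen : L.length = 4 + wds.length)
    (htab : ∀ l < L.length, tabOK (L.getD l []) = true) (h4 : Sound L (elsOf wds) 4)
    (hdef : ∀ j < wds.length, defOK L wds j = true) : Sound L (elsOf wds) L.length := by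
  suffices h : ∀ m, m ≤ wds.length → Sound L (elsOf wds) (4 + m) from hlen ▸ h _ le_rfl
  intro m
  induction m with
  | zero => intro _; exact h4
  | succ m ih =>
    intro hm l hl
    rcases Nat.lt_or_ge l (4 + m) with hlt | hge
    · exact ih (by omega) l hlt
    · obtain rfl : l = 4 + m := by omega
      obtain ⟨h1, h2⟩ := tabOK_spec (htab (4 + m) (by omega))
      refine ⟨h1, h2, Matrix.ext fun i j => ?_⟩
      have hd := hdef m (by omega)
      rw [defOK, cond_false_eq_true] at hd
      have hw : ∀ x ∈ wds.getD m [], x < 4 + m := fun x hx =>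
        Nat.ble_eq.mp (allList_iff.mp hd.1 x hx)
      have e : vwt L (2 ^ (i : Nat)) [4 + m] = vwt L (2 ^ (i : Nat)) (wds.getD m []) :=
        Nat.eq_of_beq_eq_true (of_allBelow hd.2 i i.2)
      have h3 := (ih (by omega)).run _ hw (2 ^ (i : Nat))
      rw [← e, ← getD_elsOf wds (by omega) hw, vwt_cons] at h3
      rw [show vwt L (vt (L.getD (4 + m) []) (2 ^ (i : Nat))) [] =
        vt (L.getD (4 + m) []) (2 ^ (i : Nat)) from rfl, vt_eq h2,
        rowVec_vm (by rw [rowsOf_length, h1]), rowVec_pow, Matrix.single_one_vecMul,
        Matrix.single_one_vecMul] at h3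
      exact (congrFun h3 j).symm

end CfsgLib.Coset.J4Cent
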