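import Cfsg.Prelude.Def_Sporadic_a
import Mathlib.GroupTheory.OrderOfElement
import Mathlib.LinearAlgebra.Matrix.GeneralLinearGroup.Defs
import Mathlib.Algebra.Group.Action.Pointwise.Finset
import Mathlib.GroupTheory.GroupAction.Basic

/-!
An action on the points of a set system from an action on vectors labelled by its blocks.
-/

set_option autoImplicit false
set_option linter.style.haveILetI false

namespace CfsgLib.Coset.J4Cent

open scoped Pointwise

/-- Vectors labelled by blocks of points. -/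
structure Pts (n : ℕ) (R : Type*) [CommRing R] (ι α : Type*) where
  vec : ι → Fin n → R
  hex : ι → Finset α
  inj : Function.Injective vec
  sep : ∀ p q : α, p ≠ q → ∃ i, p ∈ hex i ∧ q ∉ hex i

variable {G : Type*} [Group G] [Finite G] {n : ℕ} {R : Type*} [CommRing R] {ι α : Type*}
  [DecidableEq α] (P : Pts n R ι α) (ρ : G →* GL (Fin n) R)

/-- The element induces the permutation. -/
def Pts.Rel (g : G) (π : Equiv.Perm α) : Prop :=
  ∀ i, ∃ j, Matrix.vecMul (P.vec i) ((ρ g : GL (Fin n) R) : Matrix (Fin n) (Fin n) R) = P.vec j ∧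
    (P.hex i).image π = P.hex j

theorem Pts.rel_one : P.Rel ρ 1 1 := fun i => ⟨i, by simp, by simp⟩

/-- Composition, the permutation of the right factor acting last. -/
theorem Pts.rel_mul {g h : G} {π σ : Equiv.Perm α} (hg : P.Rel ρ g π) (hh : P.Rel ρ h σ) :
    P.Rel ρ (g * h) (σ * π) := by
  intro i
  obtain ⟨j, e1, e2⟩ := hg i
  obtain ⟨k, e3, e4⟩ := hh j
  refine ⟨k, ?_, ?_⟩
  · rw [map_mul, Units.val_mul, ← Matrix.vecMul_vecMul, e1, e3]
  · rw [← e4, ← e2, Finset.image_image]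
    rfl

theorem Pts.rel_pow {g : G} {π : Equiv.Perm α} (hg : P.Rel ρ g π) :
    ∀ m : ℕ, P.Rel ρ (g ^ m) (π ^ m) := by
  intro m
  induction m with
  | zero => simpa using P.rel_one ρ
  | succ m ih =>
    rw [pow_succ, pow_succ' π]
    exact P.rel_mul ρ ih hg

theorem Pts.rel_unique {g : G} {π σ : Equiv.Perm α} (h1 : P.Rel ρ g π) (h2 : P.Rel ρ g σ) :
    π = σ := by
  refine Equiv.ext fun p => ?_
  by_contra hne
  obtain ⟨i, hi, hq⟩ := P.sep p (π.symm (σ p)) fun e => hne (π.symm.injective (by rw [← e]; simp))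
  obtain ⟨j, e1, e2⟩ := h1 i
  obtain ⟨k, e3, e4⟩ := h2 i
  have hjk : j = k := P.inj (e1.symm.trans e3)
  have : σ p ∈ (P.hex i).image π := by
    rw [e2, hjk, ← e4]
    exact Finset.mem_image_of_mem _ hi
  obtain ⟨r, hr, he⟩ := Finset.mem_image.mp this
  exact hq (by rw [← he, Equiv.symm_apply_apply]; exact hr)

/-- The generators induce permutations, so all elements of the subgroup do. -/
theorem Pts.exists_rel {S : Set G} (hS : ∀ s ∈ S, ∃ π, P.Rel ρ s π) :
    ∀ g ∈ Subgroup.closure S, ∃ π, P.Rel ρ g π := by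
  intro g hg
  induction hg using Subgroup.closure_induction with
  | mem x hx => exact hS x hx
  | one => exact ⟨1, P.rel_one ρ⟩
  | mul a b _ _ ha hb =>
    obtain ⟨π, hπ⟩ := ha
    obtain ⟨σ, hσ⟩ := hb
    exact ⟨σ * π, P.rel_mul ρ hπ hσ⟩
  | inv a _ ha =>
    obtain ⟨π, hπ⟩ := ha
    refine ⟨π ^ (orderOf a - 1), ?_⟩
    have e : a⁻¹ = a ^ (orderOf a - 1) := by
      rw [inv_eq_iff_mul_eq_one, ← pow_succ', Nat.sub_add_cancel (orderOf_pos a),
        pow_orderOf_eq_one]
    rw [e]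
    exact P.rel_pow ρ hπ _

/-- The action on the points, with inverses to turn right into left. -/
noncomputable def Pts.hom {L : Subgroup G} (h : ∀ g ∈ L, ∃ π, P.Rel ρ g π) : L →* Equiv.Perm α where
  toFun g := ((h g g.2).choose)⁻¹
  map_one' := by
    rw [inv_eq_one]
    exact P.rel_unique ρ (h (1 : L) (1 : L).2).choose_spec (P.rel_one ρ)
  map_mul' a b := by
    rw [← mul_inv_rev, inv_inj]
    exact P.rel_unique ρ (h _ (a * b).2).choose_spec
      (P.rel_mul ρ (h a a.2).choose_spec (h b b.2).choose_spec)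

theorem Pts.hom_eq {L : Subgroup G} (h : ∀ g ∈ L, ∃ π, P.Rel ρ g π) {g : L} {π : Equiv.Perm α}
    (hg : P.Rel ρ g π) : P.hom ρ h g = π⁻¹ :=
  congrArg (·⁻¹) (P.rel_unique ρ (h g g.2).choose_spec hg)

theorem Pts.range_le [Fintype ι] {L : Subgroup G} (h : ∀ g ∈ L, ∃ π, P.Rel ρ g π) :
    (P.hom ρ h).range ≤ Cfsg.setSystemAut (Set.range P.hex) := by
  rintro _ ⟨g, rfl⟩
  refine inv_mem ?_
  have hπ := (h g g.2).choose_spec
  refine MulAction.mem_stabilizer_iff.mpr ?_
  refine Set.eq_of_subset_of_ncard_le ?_ ?_ (Set.finite_range _)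
  · rintro _ ⟨_, ⟨i, rfl⟩, rfl⟩
    obtain ⟨j, -, e⟩ := hπ i
    exact ⟨j, e.symm⟩
  · rw [Set.ncard_smul_set]

end CfsgLib.Coset.J4Cent
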