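import Cfsg.Agent.Coset.J4Cent.Kit
import Cfsg.Agent.Coset.J4Cent.Hexads

/-!
The generators permute seventy-seven vectors as the permutations of the points move the hexads.
-/

set_option autoImplicit false
set_option maxRecDepth 100000
set_option Elab.async false

namespace CfsgLib.Coset.J4Cent

open CfsgLib.Coset

section Kernel

/-- A vector. -/
noncomputable def ptV (i : Nat) : Nat := Dat.ptL.getD i 0

/-- A generator of the action. -/
noncomputable def genL (k : Nat) : Nat := [29, 30, 31, 6].getD k 0

/-- The image of a vector under a generator. -/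
noncomputable def imgI (k i : Nat) : Nat := (Dat.g77L.getD k []).getD i 0

/-- A generator moves a vector as listed. -/
noncomputable def moveOK (k i : Nat) : Bool :=
  cond (Nat.ble (Nat.add (imgI k i) 1) 77)
    (Nat.beq (vwt Dat.tabL (ptV i) [genL k]) (ptV (imgI k i))) false

/-- The normal subgroup fixes a vector. -/
noncomputable def fixOK (i : Nat) : Bool :=
  allList (fun l => Nat.beq (vwt Dat.tabL (ptV i) [l]) (ptV i))
    [5, 16, 17, 18, 19, 20, 21, 22, 23, 24, 25, 26, 27, 28]

/-- The vectors are small. -/
noncomputable def smallOK (i : Nat) : Bool := Nat.ble (Nat.add (ptV i) 1) (Nat.pow 2 112)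

end Kernel

theorem move_ok0 : allBelow 7 77 (moveOK 0) = true := by decide +kernel
theorem move_ok1 : allBelow 7 77 (moveOK 1) = true := by decide +kernel
theorem move_ok2 : allBelow 7 77 (moveOK 2) = true := by decide +kernel
theorem move_ok3 : allBelow 7 77 (moveOK 3) = true := by decide +kernel
theorem fix_ok : allBelow 7 77 fixOK = true := by decide +kernel
theorem small_ok : allBelow 7 77 smallOK = true := by decide +kernel
theorem ptL_nodup : Dat.ptL.Nodup := by decide +kernel
theorem ptL_length : Dat.ptL.length = 77 := by decide +kernel

theorem hex_moved : ∀ (k : Fin 4) (i : Fin 77) (p : Fin 22),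
    (hexM.getD i 0).testBit p =
      (hexM.getD ((Dat.g77L.getD k []).getD i 0) 0).testBit (pis.getD k 1 p) := by
  decide +kernel

end CfsgLib.Coset.J4Cent
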