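import Cfsg.Agent.Coset.J4Cent.Kit

/-!
Relations among the generators of the two-group and the element of order three.
-/

set_option autoImplicit false
set_option maxRecDepth 100000
set_option Elab.async false

namespace CfsgLib.Coset.J4Cent

open CfsgLib.Coset

section Kernel

/-- The first half of the generators. -/
noncomputable def aL (i : Nat) : Nat := Nat.add 16 i

/-- The second half of the generators. -/
noncomputable def bL (i : Nat) : Nat := Nat.add 22 i

/-- Squares and centrality. -/
noncomputable def unaryOK (i : Nat) : Bool :=
  cond (eqW [aL i, 5] [5, aL i]) (cond (eqW [bL i, 5] [5, bL i])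
    (cond (eqW [aL i, aL i] []) (eqW [bL i, bL i] []) false) false) false

/-- The commutators. -/
noncomputable def pairOK (i j : Nat) : Bool :=
  cond (eqW [aL i, aL j] [aL j, aL i]) (cond (eqW [bL i, bL j] [bL j, bL i])
    (cond (Nat.beq i j) (eqW [aL i, bL j] [5, bL j, aL i]) (eqW [aL i, bL j] [bL j, aL i]))
    false) false

/-- The element of order three normalises. -/
noncomputable def conjOK (i : Nat) : Bool :=
  cond (lettersLT (Dat.conjL.getD i []) 28) (cond (allList (fun l => Nat.ble 5 l) (Dat.conjL.getD i []))
    (cond (allList (fun l => cond (Nat.beq l 5) true (Nat.ble 16 l)) (Dat.conjL.getD i []))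
      (eqW [28, Nat.add 16 i, 28, 28] (Dat.conjL.getD i [])) false) false) false

end Kernel

theorem unary_ok : allBelow 3 6 unaryOK = true := by decide +kernel
theorem pair_ok0 : allBelow 3 6 (pairOK 0) = true := by decide +kernel
theorem pair_ok1 : allBelow 3 6 (pairOK 1) = true := by decide +kernel
theorem pair_ok2 : allBelow 3 6 (pairOK 2) = true := by decide +kernel
theorem pair_ok3 : allBelow 3 6 (pairOK 3) = true := by decide +kernel
theorem pair_ok4 : allBelow 3 6 (pairOK 4) = true := by decide +kernel
theorem pair_ok5 : allBelow 3 6 (pairOK 5) = true := by decide +kernel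
theorem conj_ok : allBelow 4 12 conjOK = true := by decide +kernel
theorem p_cube : eqW [28, 28, 28] [] = true := by decide +kernel
theorem p_comm : eqW [28, 5] [5, 28] = true := by decide +kernel
theorem p_move : moveW Dat.sepV [28] = true := by decide +kernel
theorem z_move : moveW Dat.sepV [5] = true := by decide +kernel
theorem z_square : eqW [5, 5] [] = true := by decide +kernel
theorem gens_comm : allList (fun l => eqW [l, 5] [5, l]) [29, 30, 31, 6] = true := by decide +kernel

end CfsgLib.Coset.J4Cent
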