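import Cfsg.Agent.Coset.J4Cent.Defs0
import Cfsg.Agent.Coset.J4Cent.Defs1
import Cfsg.Agent.Coset.J4Cent.Defs2
import Cfsg.Agent.Coset.J4Cent.Defs3

/-!
The tables are the matrices of the named elements.
-/

set_option autoImplicit false
set_option maxRecDepth 100000
set_option Elab.async false

namespace CfsgLib.Coset.J4Cent

open CfsgLib.Coset CfsgLib.Coset.J4 CfsgLib.Coset.J4.Mat
open Cfsg.Spor.J4 (Gen)

/-- The named elements. -/
noncomputable def els : List Cfsg.Spor.J4 := elsOf Dat.wdL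

theorem len_tabL : Dat.tabL.length = 32 := by decide +kernel

theorem tabs_ok : ∀ l < Dat.tabL.length, tabOK (Dat.tabL.getD l []) = true := by
  intro l hl
  rw [len_tabL] at hl
  interval_cases l
  exacts [tab0_ok, tab1_ok, tab2_ok, tab3_ok, tab4_ok, tab5_ok, tab6_ok, tab7_ok, tab8_ok, tab9_ok, tab10_ok, tab11_ok, tab12_ok, tab13_ok, tab14_ok, tab15_ok, tab16_ok, tab17_ok, tab18_ok, tab19_ok, tab20_ok, tab21_ok, tab22_ok, tab23_ok, tab24_ok, tab25_ok, tab26_ok, tab27_ok, tab28_ok, tab29_ok, tab30_ok, tab31_ok]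

theorem rows4_ok : rowsOf (Dat.tabL.getD 0 []) = rowsX ∧ rowsOf (Dat.tabL.getD 1 []) = rowsY ∧
    rowsOf (Dat.tabL.getD 2 []) = rowsY2 ∧ rowsOf (Dat.tabL.getD 3 []) = rowsT := by
  decide +kernel

attribute [local irreducible] matOf rowsOf

theorem sound4 : Sound Dat.tabL els 4 := by
  intro l hl
  obtain ⟨h1, h2⟩ := tabOK_spec (tabs_ok l (by rw [len_tabL]; omega))
  refine ⟨h1, h2, ?_⟩
  obtain ⟨e0, e1, e2, e3⟩ := rows4_ok
  rw [els, getD_elsOf_take Dat.wdL 0 (by omega) (Nat.zero_le _), List.take_zero]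
  interval_cases l
  · rw [e0]
    show Units.val (repJ4 (PresentedGroup.of Gen.x)) = _
    rw [repJ4_of]; rfl
  · rw [e1]
    show Units.val (repJ4 (PresentedGroup.of Gen.y)) = _
    rw [repJ4_of]; rfl
  · rw [e2]
    show Units.val (repJ4 (PresentedGroup.of Gen.y)⁻¹) = _
    rw [map_inv, repJ4_of]; rfl
  · rw [e3]
    show Units.val (repJ4 (PresentedGroup.of Gen.t)) = _
    rw [repJ4_of]; rfl

theorem sound : Sound Dat.tabL els 32 := by
  have h : ∀ j < Dat.wdL.length, defOK Dat.tabL Dat.wdL j = true := by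
    intro j hj
    have : j < 28 := hj
    interval_cases j
    exacts [def0_ok, def1_ok, def2_ok, def3_ok, def4_ok, def5_ok, def6_ok, def7_ok, def8_ok, def9_ok, def10_ok, def11_ok, def12_ok, def13_ok, def14_ok, def15_ok, def16_ok, def17_ok, def18_ok, def19_ok, def20_ok, def21_ok, def22_ok, def23_ok, def24_ok, def25_ok, def26_ok, def27_ok]
  exact sound_elsOf (L := Dat.tabL) (wds := Dat.wdL) (by decide +kernel) tabs_ok sound4 h

end CfsgLib.Coset.J4Cent
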