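import Cfsg.Agent.Coset.J4Cent.Abstract
import Cfsg.Agent.Coset.J4Cent.Points
import Cfsg.Agent.Coset.J4Cent.Extra
import Cfsg.Agent.Coset.J4Cent.QChecks
import Cfsg.Agent.Coset.J4Cent.PtChecks

/-!
The centralizer of the named involution in the presented group, given faithfulness and the bound.
-/

set_option autoImplicit false
set_option maxRecDepth 100000
set_option linter.style.haveILetI false

namespace CfsgLib.Coset.J4Cent

open CfsgLib.Coset CfsgLib.Coset.J4 CfsgLib.Coset.J4.Mat
open Cfsg.Spor (J4)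
open scoped Pointwise

/-- The first family of generators of the two-group. -/
noncomputable def qa (i : Fin 6) : Cfsg.Spor.J4 := EL (16 + i)

/-- The second family of generators of the two-group. -/
noncomputable def qb (i : Fin 6) : Cfsg.Spor.J4 := EL (22 + i)

variable (hinj : Function.Injective repJ4)

include hinj

theorem eq2 {k l m n : Nat} (h : eqW [k, l] [m, n] = true) : EL k * EL l = EL m * EL n := by
  rw [← W_two, ← W_two]
  exact eqW_spec hinj h

theorem sq1 {k : Nat} (h : eqW [k, k] [] = true) : EL k * EL k = 1 := by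
  rw [← W_two, eqW_spec hinj h]
  rfl

theorem order_z : orderOf (EL 5) = 2 := by
  haveI : Fact (Nat.Prime 2) := ⟨Nat.prime_two⟩
  refine orderOf_eq_prime (by rw [pow_two]; exact sq1 hinj z_square) ?_
  rw [← W_one]
  exact moveW_spec z_move

theorem sympl : Sympl (EL 5) qa qb := by
  have hu := fun i : Fin 6 => by
    have h := of_allBelow unary_ok i i.2
    simpa only [unaryOK, cond_false_eq_true] using h
  have hp := fun i j : Fin 6 => by
    have h : pairOK i j = true := by
      obtain ⟨i, hi⟩ := i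
      interval_cases i
      exacts [of_allBelow pair_ok0 j j.2, of_allBelow pair_ok1 j j.2, of_allBelow pair_ok2 j j.2,
        of_allBelow pair_ok3 j j.2, of_allBelow pair_ok4 j j.2, of_allBelow pair_ok5 j j.2]
    simpa only [pairOK, cond_false_eq_true] using h
  refine ⟨order_z hinj, fun i => eq2 hinj (hu i).1, fun i => eq2 hinj (hu i).2.1,
    fun i => sq1 hinj (hu i).2.2.1, fun i => sq1 hinj (hu i).2.2.2,
    fun i j => eq2 hinj (hp i j).1, fun i j => eq2 hinj (hp i j).2.1, fun i j hij => ?_,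
    fun i => ?_⟩
  · have h := (hp i j).2.2
    have hb : Nat.beq (i : Nat) j = false := by
      rw [← Bool.not_eq_true, Nat.beq_eq]; exact fun e => hij (Fin.ext e)
    rw [hb, cond_false] at h
    exact eq2 hinj h
  · have h := (hp i i).2.2
    rw [Nat.beq_refl, cond_true] at h
    have := eqW_spec hinj h
    rwa [W_two, W_cons, W_two] at this

omit hinj in
/-- The extraspecial group. -/
noncomputable def QQ : Subgroup Cfsg.Spor.J4 := extSub (EL 5) qa qb

omit hinj in
/-- The group of order three times the extraspecial group. -/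
noncomputable def NN : Subgroup Cfsg.Spor.J4 := QQ ⊔ Subgroup.zpowers (EL 28)

omit hinj in
theorem el_mem {l : Nat} (h5 : l = 5 ∨ 16 ≤ l) (h28 : l < 28) : EL l ∈ QQ := by
  rcases h5 with rfl | h16
  · exact Subgroup.subset_closure (Set.mem_insert _ _)
  rcases Nat.lt_or_ge l 22 with h | h
  · refine Subgroup.subset_closure (Or.inr (Or.inl ⟨⟨l - 16, by omega⟩, ?_⟩))
    show EL (16 + (l - 16)) = EL l
    rw [Nat.add_sub_cancel' h16]
  · refine Subgroup.subset_closure (Or.inr (Or.inr ⟨⟨l - 22, by omega⟩, ?_⟩))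
    show EL (22 + (l - 22)) = EL l
    rw [Nat.add_sub_cancel' h]

theorem p_conj_gen {l : Nat} (h5 : l = 5 ∨ 16 ≤ l) (h28 : l < 28) :
    EL 28 * EL l * (EL 28)⁻¹ ∈ QQ := by
  have hp3 : EL 28 * (EL 28 * EL 28) = 1 := by
    have := eqW_spec hinj p_cube
    rwa [W_cons, W_two, W_nil] at this
  have hinv : (EL 28)⁻¹ = EL 28 * EL 28 := inv_eq_of_mul_eq_one_right hp3
  rcases h5 with rfl | h16
  · have e := eq2 hinj p_comm
    rw [e, mul_inv_cancel_right]
    exact el_mem (Or.inl rfl) (by norm_num)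
  have h := of_allBelow conj_ok (l - 16) (by omega)
  simp only [conjOK, cond_false_eq_true] at h
  obtain ⟨h1, -, h3, h4⟩ := h
  have := eqW_spec hinj h4
  rw [show Nat.add 16 (l - 16) = l from Nat.add_sub_cancel' h16, W_cons, W_cons, W_two] at this
  rw [hinv, mul_assoc, this, W]
  refine list_prod_mem fun g hg => ?_
  obtain ⟨m, hm, rfl⟩ := List.mem_map.mp hg
  have h3' := allList_iff.mp h3 m hm
  have hm28 : m < 28 := lettersLT_spec h1 m hm
  cases hb : Nat.beq m 5 with
  | true =>
    obtain rfl := Nat.eq_of_beq_eq_true hb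
    exact el_mem (Or.inl rfl) (by norm_num)
  | false =>
    rw [hb, cond_false] at h3'
    exact el_mem (Or.inr (Nat.ble_eq.mp h3')) hm28

theorem p_conj : ∀ q ∈ QQ, EL 28 * q * (EL 28)⁻¹ ∈ QQ := by
  intro q hq
  induction hq using Subgroup.closure_induction with
  | mem x hx =>
    rcases hx with rfl | ⟨i, rfl⟩ | ⟨i, rfl⟩
    · exact p_conj_gen hinj (Or.inl rfl) (by norm_num)
    · exact p_conj_gen hinj (Or.inr (Nat.le_add_right _ _)) (by omega)
    · exact p_conj_gen hinj (Or.inr (by omega)) (by omega)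
  | one => simpa using one_mem QQ
  | mul a b _ _ ha hb =>
    rw [show EL 28 * (a * b) * (EL 28)⁻¹ =
      (EL 28 * a * (EL 28)⁻¹) * (EL 28 * b * (EL 28)⁻¹) by group]
    exact mul_mem ha hb
  | inv a _ ha =>
    rw [show EL 28 * a⁻¹ * (EL 28)⁻¹ = (EL 28 * a * (EL 28)⁻¹)⁻¹ by group]
    exact inv_mem ha

variable [Finite Cfsg.Spor.J4]

theorem NN_normalizes : ∀ n ∈ NN, ∀ q ∈ QQ, n * q * n⁻¹ ∈ QQ := by
  have hpQ : EL 28 ∈ Subgroup.normalizer (QQ : Set Cfsg.Spor.J4) := by
    rw [Subgroup.mem_normalizer_iff]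
    have he : QQ.map (MulAut.conj (EL 28)).toMonoidHom = QQ := by
      refine Subgroup.eq_of_le_of_card_ge ?_ ?_
      · rintro _ ⟨q, hq, rfl⟩
        exact p_conj hinj q hq
      · rw [Subgroup.card_map_of_injective (MulEquiv.injective _)]
    intro q
    refine ⟨p_conj hinj q, fun h => ?_⟩
    rw [← he] at h
    obtain ⟨q', hq', e⟩ := h
    obtain rfl : q' = q := (MulAut.conj (EL 28)).injective (by simpa using e)
    exact hq'
  intro n hn q hq
  have hle : NN ≤ Subgroup.normalizer (QQ : Set Cfsg.Spor.J4) :=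
    sup_le Subgroup.le_normalizer ((Subgroup.zpowers_le).mpr hpQ)
  exact (Subgroup.mem_normalizer_iff.mp (hle hn) q).mp hq

theorem card_QQ : Nat.card QQ = 2 ^ 13 := by
  rw [QQ, (sympl hinj).card_extSub]

theorem card_NN : Nat.card NN = 3 * 2 ^ 13 := by
  haveI : Fact (Nat.Prime 3) := ⟨Nat.prime_three⟩
  have hp : orderOf (EL 28) = 3 := by
    refine orderOf_eq_prime ?_ ?_
    · have := eqW_spec hinj p_cube
      rw [W_cons, W_two, W_nil] at this
      rw [pow_succ', pow_two]
      exact this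
    · rw [← W_one]
      exact moveW_spec p_move
  have hcop : Disjoint QQ (Subgroup.zpowers (EL 28)) := by
    rw [disjoint_iff_inf_le]
    intro g hg
    rw [Subgroup.mem_bot, ← orderOf_eq_one_iff]
    have h1 : orderOf g ∣ 2 ^ 13 := card_QQ hinj ▸ Subgroup.orderOf_dvd_natCard QQ hg.1
    have h2 : orderOf g ∣ 3 := hp ▸ orderOf_dvd_of_mem_zpowers hg.2
    exact Nat.dvd_one.mp ((Nat.dvd_gcd h1 h2).trans (by norm_num))
  have hnorm : Subgroup.zpowers (EL 28) ≤ Subgroup.normalizer (QQ : Set Cfsg.Spor.J4) := by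
    refine fun g hg => Subgroup.mem_normalizer_iff.mpr fun q => ?_
    have hgN : g ∈ NN := (le_sup_right : _ ≤ NN) hg
    refine ⟨NN_normalizes hinj g hgN q, fun h => ?_⟩
    simpa [mul_assoc] using NN_normalizes hinj g⁻¹ (inv_mem hgN) _ h
  have hc := Subgroup.coe_mul_of_right_le_normalizer_left QQ (Subgroup.zpowers (EL 28)) hnorm
  have : Nat.card NN = Nat.card QQ * Nat.card (Subgroup.zpowers (EL 28)) := by
    rw [← Nat.card_prod]
    refine (Nat.card_eq_of_bijective (fun x => (⟨(x.1 : Cfsg.Spor.J4) * x.2,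
      mul_mem ((le_sup_left : QQ ≤ NN) x.1.2) ((le_sup_right : _ ≤ NN) x.2.2)⟩ : NN)) ⟨?_, ?_⟩).symm
    · exact fun x y e => Subgroup.mul_injective_of_disjoint hcop (congrArg Subtype.val e)
    · rintro ⟨g, hg⟩
      have hg' : g ∈ (QQ : Set Cfsg.Spor.J4) * (Subgroup.zpowers (EL 28) : Set Cfsg.Spor.J4) := by
        rw [← hc]; exact hg
      obtain ⟨a, ha, b, hb, rfl⟩ := Set.mem_mul.mp hg'
      exact ⟨(⟨a, ha⟩, ⟨b, hb⟩), rfl⟩
  rw [this, card_QQ hinj, Nat.card_zpowers, hp, mul_comm]

omit hinj in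
/-- The vectors and hexads. -/
noncomputable def pts : Pts 112 (ZMod 2) (Fin 77) (Fin 22) where
  vec i := rowVec 112 (ptV i)
  hex := hexS
  inj i j h := by
    have := rowVec_inj (Nat.ble_eq.mp (of_allBelow small_ok i i.2))
      (Nat.ble_eq.mp (of_allBelow small_ok j j.2)) h
    have hi : (i : Nat) < Dat.ptL.length := by rw [ptL_length]; exact i.2
    have hj : (j : Nat) < Dat.ptL.length := by rw [ptL_length]; exact j.2
    rw [ptV, ptV, List.getD_eq_getElem _ _ hi, List.getD_eq_getElem _ _ hj] at this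
    exact Fin.ext (ptL_nodup.getElem_inj_iff.mp this)
  sep p q h := (hexS_sep p q h).imp fun i hi =>
    ⟨mem_hexS.mpr hi.1, fun hq => by
      have := mem_hexS.mp hq
      rw [hi.2] at this
      exact Bool.noConfusion this⟩

omit hinj [Finite Cfsg.Spor.J4] in
theorem rel_gen (k : Fin 4) : pts.Rel repJ4 (EL (genL k)) (pis.getD k 1) := by
  intro i
  have h : moveOK k i = true := by
    obtain ⟨k, hk⟩ := k
    interval_cases k
    exacts [of_allBelow move_ok0 i i.2, of_allBelow move_ok1 i i.2, of_allBelow move_ok2 i i.2,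
      of_allBelow move_ok3 i i.2]
  simp only [moveOK, cond_false_eq_true] at h
  have hl : lettersLT [genL k] 32 = true :=
    (by decide +kernel : ∀ k < 4, lettersLT [genL k] 32 = true) k k.2
  refine ⟨⟨imgI k i, Nat.ble_eq.mp h.1⟩, ?_, ?_⟩
  · have := vwt_vec hl (Nat.eq_of_beq_eq_true h.2)
    rwa [W_one] at this
  · show (hexS i).image _ = hexS _
    ext q
    rw [Finset.mem_image, mem_hexS]
    constructor
    · rintro ⟨p, hp, rfl⟩
      exact (hex_moved k i p) ▸ mem_hexS.mp hp
    · intro hq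
      refine ⟨(pis.getD k 1).symm q, mem_hexS.mpr ?_, Equiv.apply_symm_apply _ _⟩
      rw [hex_moved k i, Equiv.apply_symm_apply]
      exact hq

omit hinj [Finite Cfsg.Spor.J4] in
theorem rel_fix {l : Nat}
    (hl : l ∈ [5, 16, 17, 18, 19, 20, 21, 22, 23, 24, 25, 26, 27, 28]) :
    pts.Rel repJ4 (EL l) 1 := by
  intro i
  refine ⟨i, ?_, by simp⟩
  have h := allList_iff.mp (of_allBelow fix_ok i i.2) l hl
  have hlt : lettersLT [l] 32 = true :=
    (by decide +kernel : ∀ l ∈ [5, 16, 17, 18, 19, 20, 21, 22, 23, 24, 25, 26, 27, 28],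
      lettersLT [l] 32 = true) l hl
  have := vwt_vec hlt (Nat.eq_of_beq_eq_true h)
  rwa [W_one] at this

omit hinj in
/-- Generators of the centralizer. -/
noncomputable def lGens : Set Cfsg.Spor.J4 :=
  {g | ∃ l ∈ [29, 30, 31, 6, 5, 16, 17, 18, 19, 20, 21, 22, 23, 24, 25, 26, 27, 28], g = EL l}

omit hinj in
/-- The generated subgroup. -/
noncomputable def LL : Subgroup Cfsg.Spor.J4 := Subgroup.closure lGens

omit hinj [Finite Cfsg.Spor.J4] in
theorem NN_le : NN ≤ LL := by
  refine sup_le ((Subgroup.closure_le _).mpr ?_)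
    (Subgroup.zpowers_le.mpr (Subgroup.subset_closure ⟨28, by decide, rfl⟩))
  rintro g (rfl | ⟨i, rfl⟩ | ⟨i, rfl⟩)
  · exact Subgroup.subset_closure ⟨5, by decide, rfl⟩
  · exact Subgroup.subset_closure ⟨16 + i, by revert i; decide, rfl⟩
  · exact Subgroup.subset_closure ⟨22 + i, by revert i; decide, rfl⟩

theorem LL_le : LL ≤ Subgroup.centralizer {EL 5} := by
  refine (Subgroup.closure_le _).mpr ?_
  rintro g ⟨l, hl, rfl⟩
  refine Subgroup.mem_centralizer_singleton_iff.mpr ?_
  have hs := sympl hinj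
  simp only [List.mem_cons, List.not_mem_nil, or_false] at hl
  have hg := allList_iff.mp gens_comm
  rcases hl with rfl | rfl | rfl | rfl | rfl | rfl | rfl | rfl | rfl | rfl | rfl | rfl | rfl | rfl |
    rfl | rfl | rfl | rfl
  exacts [eq2 hinj (hg 29 (List.mem_cons_self ..)),
    eq2 hinj (hg 30 (List.mem_cons_of_mem _ (List.mem_cons_self ..))),
    eq2 hinj (hg 31 (List.mem_cons_of_mem _ (List.mem_cons_of_mem _ (List.mem_cons_self ..)))),
    eq2 hinj (hg 6 (List.mem_cons_of_mem _ (List.mem_cons_of_mem _ (List.mem_cons_of_mem _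
      (List.mem_cons_self ..))))),
    rfl, hs.za 0, hs.za 1, hs.za 2, hs.za 3, hs.za 4, hs.za 5,
    hs.zb 0, hs.zb 1, hs.zb 2, hs.zb 3, hs.zb 4, hs.zb 5, eq2 hinj p_comm]

omit hinj in
theorem exists_rel : ∀ g ∈ LL, ∃ π, pts.Rel repJ4 g π := by
  refine pts.exists_rel repJ4 ?_
  rintro g ⟨l, hl, rfl⟩
  fin_cases hl
  · exact ⟨_, rel_gen 0⟩
  · exact ⟨_, rel_gen 1⟩
  · exact ⟨_, rel_gen 2⟩
  · exact ⟨_, rel_gen 3⟩
  all_goals exact ⟨1, rel_fix (by decide)⟩

theorem structure_of_bound
    (hC : Nat.card (Subgroup.centralizer {EL 5}) ≤ 21799895040) :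
    orderOf (EL 5) = 2 ∧
      ∃ (Q' N' M' : Subgroup (Subgroup.centralizer ({EL 5} : Set Cfsg.Spor.J4))),
      Q'.Normal ∧ N'.Normal ∧ Q' ≤ N' ∧ N' ≤ M' ∧ Nat.card Q' = 2 ^ 13 ∧
      Cfsg.IsExtraspecial 2 Q' ∧ Nat.card N' = 3 * 2 ^ 13 ∧ M'.index = 2 ∧
      ∃ (_ : (N'.subgroupOf M').Normal), Cfsg.IsM22 (M' ⧸ N'.subgroupOf M') := by
  refine centralizer_structure (order_z hinj) (LL_le hinj) NN_le le_sup_left
    (NN_normalizes hinj) (card_QQ hinj) ((sympl hinj).extraspecial (by norm_num)) (card_NN hinj)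
    (Fintype.card_fin 22) steiner (pts.hom repJ4 exists_rel) (pts.range_le repJ4 exists_rel) ?_ ?_ hC
  · intro g hg
    rw [MonoidHom.mem_ker]
    have hrel : pts.Rel repJ4 (g : Cfsg.Spor.J4) 1 := by
      have hsub : ∀ h ∈ NN, pts.Rel repJ4 h 1 := by
        intro h hh
        rw [NN, QQ, extSub, Subgroup.zpowers_eq_closure, ← Subgroup.closure_union] at hh
        induction hh using Subgroup.closure_induction with
        | mem x hx =>
          rcases hx with (rfl | ⟨i, rfl⟩ | ⟨i, rfl⟩) | rfl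
          · exact rel_fix (by decide)
          · exact rel_fix (by revert i; decide)
          · exact rel_fix (by revert i; decide)
          · exact rel_fix (by decide)
        | one => exact pts.rel_one repJ4
        | mul a b _ _ ha hb => simpa using pts.rel_mul repJ4 ha hb
        | inv a _ ha =>
          have := pts.rel_pow repJ4 ha (orderOf a - 1)
          rw [one_pow] at this
          rwa [inv_eq_iff_mul_eq_one.mpr (by
            rw [← pow_succ', Nat.sub_add_cancel (orderOf_pos a), pow_orderOf_eq_one])]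
      exact hsub _ hg
    rw [pts.hom_eq repJ4 exists_rel hrel, inv_one]
  · refine card_le_of_pis fun p hp => ?_
    obtain ⟨k, hk, rfl⟩ := List.getElem_of_mem hp
    have hk4 : k < 4 := hk
    have hmem : EL (genL k) ∈ LL := Subgroup.subset_closure ⟨_, by
      interval_cases k <;> decide +kernel, rfl⟩
    have e := pts.hom_eq repJ4 exists_rel (g := ⟨_, hmem⟩) (rel_gen ⟨k, hk4⟩)
    have := inv_mem (MonoidHom.mem_range.mpr ⟨_, e⟩)
    rwa [inv_inv, List.getD_eq_getElem _ _ hk] at this

end CfsgLib.Coset.J4Cent
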